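import Cfsg.Agent.Lib.Inv59.RudT.GLThree

/-!
The normaliser of an elementary abelian group of order eight acts through `SL(3, 2)`, with the
centraliser as kernel; and `SL(3, 2)` is simple of order 168.

Owner: helper99.
-/

set_option autoImplicit false
set_option linter.style.haveILetI false
set_option linter.unusedSectionVars false

namespace Cfsg.Agent.Lib.FischerLarge99

/-- The special linear group used here. -/
abbrev SL32 : Type := Matrix.SpecialLinearGroup (Fin 3) (ZMod 2)

theorem toGL_bijective : Function.Bijective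
    (Matrix.SpecialLinearGroup.toGL : SL32 → GL (Fin 3) (ZMod 2)) :=
  ⟨Matrix.SpecialLinearGroup.toGL_injective, fun g =>
    haveI : Fact (Nat.Prime 2) := ⟨Nat.prime_two⟩
    ⟨⟨g, Inv59.RudT.zmod2_ne _ g.det.ne_zero⟩, Units.ext rfl⟩⟩

theorem card_SL32 : Nat.card SL32 = 168 := by
  rw [Nat.card_congr (Equiv.ofBijective _ toGL_bijective)]
  exact Inv59.RudT.card_G32

theorem simple_SL32 : IsSimpleGroup SL32 := by
  haveI := Inv59.RudT.simple_G32
  let e : SL32 ≃* GL (Fin 3) (ZMod 2) := MulEquiv.ofBijective Matrix.SpecialLinearGroup.toGL toGL_bijective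
  haveI : Nontrivial SL32 := e.toEquiv.nontrivial
  exact IsSimpleGroup.isSimpleGroup_of_surjective e.symm.toMonoidHom e.symm.surjective

theorem exists_action {G : Type*} [Group G] [Finite G] (V : Subgroup G) (hsq : ∀ x ∈ V, x * x = 1)
    (hcard : Nat.card V = 8) : ∃ φ : Subgroup.normalizer (V : Set G) →* SL32,
      ∀ l, φ l = 1 ↔ (l : G) ∈ Subgroup.centralizer (V : Set G) := by
  haveI : Fact (Nat.Prime 2) := ⟨Nat.prime_two⟩
  have hi : ∀ a ∈ V, a⁻¹ = a := fun a ha => inv_eq_of_mul_eq_one_right (hsq a ha)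
  letI : CommGroup V :=
    { (inferInstance : Group V) with
      mul_comm := fun a b => Subtype.ext (by
        show (a : G) * b = b * a
        calc (a : G) * b = ((a : G) * b)⁻¹ := (hi _ (mul_mem a.2 b.2)).symm
          _ = b * a := by rw [mul_inv_rev, hi a a.2, hi b b.2]) }
  letI : Module (ZMod 2) (Additive V) := AddCommGroup.zmodModule fun a => by
    rw [two_nsmul]
    exact congrArg Additive.ofMul (Subtype.ext (hsq _ (Additive.toMul a).2))
  haveI : Finite (Additive V) := inferInstanceAs (Finite V)
  haveI : Module.Finite (ZMod 2) (Additive V) := Module.Finite.of_finite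
  have hrank : Module.finrank (ZMod 2) (Additive V) = 3 := by
    have h := Module.natCard_eq_pow_finrank (K := ZMod 2) (V := Additive V)
    rw [Nat.card_congr Additive.toMul, hcard, Nat.card_zmod, show (8 : ℕ) = 2 ^ 3 from rfl] at h
    exact (Nat.pow_right_injective le_rfl h).symm
  let e : Additive V ≃ₗ[ZMod 2] (Fin 3 → ZMod 2) :=
    LinearEquiv.ofFinrankEq _ _ (by rw [hrank, Module.finrank_fin_fun])
  have hmem : ∀ (l : Subgroup.normalizer (V : Set G)) (a : V), (l : G) * a * (l : G)⁻¹ ∈ V := fun l a =>
    (Subgroup.mem_normalizer_iff.1 l.2 a).1 a.2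
  let f : Subgroup.normalizer (V : Set G) → Additive V →ₗ[ZMod 2] Additive V := fun l =>
    (AddMonoidHom.mk' (fun a => Additive.ofMul (⟨_, hmem l (Additive.toMul a)⟩ : V)) fun a b =>
      congrArg Additive.ofMul (Subtype.ext (by
        show (l : G) * ((Additive.toMul a : V) * (Additive.toMul b : V) : G) * (l : G)⁻¹ =
          ((l : G) * (Additive.toMul a : V) * (l : G)⁻¹) * ((l : G) * (Additive.toMul b : V) * (l : G)⁻¹)
        group))).toZModLinearMap 2
  have hf : ∀ l a, ((Additive.toMul (f l a) : V) : G) = (l : G) * (Additive.toMul a : V) * (l : G)⁻¹ :=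
    fun l a => rfl
  let g : Subgroup.normalizer (V : Set G) → Matrix (Fin 3) (Fin 3) (ZMod 2) := fun l =>
    LinearMap.toMatrix' (e.toLinearMap ∘ₗ f l ∘ₗ e.symm.toLinearMap)
  have hg : ∀ l v, Matrix.mulVec (g l) v = e (f l (e.symm v)) := fun l v =>
    LinearMap.toMatrix'_mulVec _ v
  have hmul : ∀ l m, g (l * m) = g l * g m := fun l m => by
    refine Matrix.toLin'.injective (LinearMap.ext fun v => ?_)
    rw [Matrix.toLin'_apply, Matrix.toLin'_apply, ← Matrix.mulVec_mulVec, hg, hg, hg,
      LinearEquiv.symm_apply_apply]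
    congr 1
    apply Additive.toMul.injective
    apply Subtype.ext
    rw [hf, hf, hf, Subgroup.coe_mul]
    group
  have hone : g 1 = 1 := by
    refine Matrix.toLin'.injective (LinearMap.ext fun v => ?_)
    rw [Matrix.toLin'_apply, Matrix.toLin'_one, LinearMap.id_apply, hg]
    conv_rhs => rw [← e.apply_symm_apply v]
    congr 1
    apply Additive.toMul.injective
    apply Subtype.ext
    rw [hf]
    simp
  have hdet : ∀ l, (g l).det = 1 := fun l => Inv59.RudT.zmod2_ne _ (fun h => by
    have e1 : (g (l * l⁻¹)).det = 1 := by rw [mul_inv_cancel, hone, Matrix.det_one]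
    rw [hmul, Matrix.det_mul, h, zero_mul] at e1
    exact zero_ne_one e1)
  refine ⟨MonoidHom.mk' (fun l => ⟨g l, hdet l⟩) fun l m => Subtype.ext (hmul l m), fun l => ?_⟩
  constructor
  · intro h
    have h' : g l = 1 := congrArg Subtype.val h
    rw [Subgroup.mem_centralizer_iff]
    intro a ha
    have e1 := hg l (e (Additive.ofMul (⟨a, ha⟩ : V)))
    rw [h', Matrix.one_mulVec, LinearEquiv.symm_apply_apply] at e1
    have e2 := congrArg (fun x : Additive V => ((Additive.toMul x : V) : G)) (e.injective e1)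
    rw [hf] at e2
    exact eq_mul_inv_iff_mul_eq.1 e2
  · intro h
    refine Subtype.ext (Matrix.toLin'.injective (LinearMap.ext fun v => ?_))
    show Matrix.toLin' (g l) v = Matrix.toLin' 1 v
    rw [Matrix.toLin'_apply, Matrix.toLin'_one, LinearMap.id_apply, hg]
    conv_rhs => rw [← e.apply_symm_apply v]
    congr 1
    apply Additive.toMul.injective
    apply Subtype.ext
    rw [hf, ← Subgroup.mem_centralizer_iff.1 h _ (Additive.toMul (e.symm v)).2, mul_inv_cancel_right]

end Cfsg.Agent.Lib.FischerLarge99
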