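import Cfsg.Agent.Lib.FischerLarge99.NoSwap
import Cfsg.Agent.Lib.LargeFischer13.Involutions
import Cfsg.Agent.Lib.FischerLarge45.Lift

/-!
A conjugate `s ≠ z` of `z` in `Q` has `z` in its own extraspecial subgroup, which gives the stabiliser
of the vector of `s` a normal 2-subgroup of order at least 32: that vector lies in the large orbit.

Owner: helper99.
-/

set_option autoImplicit false
set_option linter.style.haveILetI false
set_option linter.unusedSectionVars false

namespace Cfsg.Agent.Lib.FischerLarge99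

open Cfsg.Agent.Lib.LargeFischer13 Cfsg.Agent.Lib.LargeExtraspecial.Basic
open Cfsg.Agent.Lib.LargeFischer13.Model

universe u

variable {G : Type u} [Group G] [Finite G] {z : G} {Q : Subgroup (Cz z)} [Q.Normal]

theorem sq_z (hz : orderOf z = 2) : z * z = 1 := by rw [← sq, ← hz]; exact pow_orderOf_eq_one z

theorem sq_fibre (B : Bridge z Q) (hz : orderOf z = 2) (x : Q) :
    ((x : Cz z) : G) * ((x : Cz z) : G) = if B.D.q (B.π x) = 0 then 1 else z := by
  split_ifs with h
  · exact congrArg (fun y : Q => ((y : Cz z) : G)) ((B.π_q x).1 h)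
  · rcases (B.π_zero (x * x)).1 (by rw [B.π_mul, B.D.two]) with e | e
    · exact absurd ((B.π_q x).2 e) h
    · exact e

theorem es_map (B : Bridge z Q) (hz : orderOf z = 2) (hzQ : z ∈ Q.map (Cz z).subtype) : ES (Q.map (Cz z).subtype) z := by
  have hne : z ≠ 1 := fun h => by simp [h] at hz
  have hcz : ∀ p ∈ Q.map (Cz z).subtype, Commute p z := by
    rintro _ ⟨p, -, rfl⟩
    exact Subgroup.mem_centralizer_singleton_iff.1 p.2
  refine ⟨hzQ, hne, sq_z hz, hcz, ?_, ?_⟩
  · rintro _ ⟨q, hq, rfl⟩ hc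
    rcases eq_or_ne (B.π ⟨q, hq⟩) 0 with h0 | h0
    · rcases (B.π_zero _).1 h0 with e | e
      · exact Or.inl (congrArg (fun y : Q => ((y : Cz z) : G)) e)
      · exact Or.inr e
    · exfalso
      obtain ⟨v, hv⟩ := B.D.nondeg _ h0
      obtain ⟨y, rfl⟩ := B.π_surj v
      have hcy : Commute ((y : Cz z) : G) (q : G) := hc _ ⟨y, y.2, rfl⟩
      set x : Q := ⟨q, hq⟩
      have e : ((↑(x * y) : Cz z) : G) * ((↑(x * y) : Cz z) : G) =
          ((x : Cz z) : G) * ((x : Cz z) : G) * (((y : Cz z) : G) * ((y : Cz z) : G)) := by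
        show (q : G) * ((y : Cz z) : G) * ((q : G) * ((y : Cz z) : G)) = _
        calc _ = (q : G) * (((y : Cz z) : G) * (q : G)) * ((y : Cz z) : G) := by group
          _ = (q : G) * (q : G) * (((y : Cz z) : G) * ((y : Cz z) : G)) := by rw [hcy.eq]; group
          _ = _ := rfl
      rw [sq_fibre B hz, sq_fibre B hz, sq_fibre B hz, B.π_mul] at e
      generalize B.D.q (B.π x + B.π y) = a, B.D.q (B.π x) = b, B.D.q (B.π y) = c at hv e
      have key : ∀ a b c : ZMod 2, a + b + c = 1 →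
          (a = 0 ∧ b = 0 ∧ c ≠ 0) ∨ (a = 0 ∧ b ≠ 0 ∧ c = 0) ∨ (a ≠ 0 ∧ b = 0 ∧ c = 0) ∨
            (a ≠ 0 ∧ b ≠ 0 ∧ c ≠ 0) := by decide
      rcases key a b c hv with ⟨ha, hb, hc'⟩ | ⟨ha, hb, hc'⟩ | ⟨ha, hb, hc'⟩ | ⟨ha, hb, hc'⟩
      all_goals simp [ha, hb, hc', sq_z hz, hne, hne.symm] at e
  · rintro _ ⟨q, hq, rfl⟩ _ ⟨v, hv, rfl⟩
    have h : B.π ⟨q * v * q⁻¹, mul_mem (mul_mem hq hv) (inv_mem hq)⟩ = B.π ⟨v, hv⟩ := by
      rw [show (⟨q * v * q⁻¹, mul_mem (mul_mem hq hv) (inv_mem hq)⟩ : Q) = ⟨q, hq⟩ * ⟨v, hv⟩ * ⟨q, hq⟩⁻¹ from rfl,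
        B.π_mul, B.π_mul, B.π_inv, add_comm (B.π ⟨q, hq⟩), add_assoc, B.D.two, add_zero]
    rcases B.fibre h.symm with e | e
    · exact Or.inl (congrArg (fun y : Q => ((y : Cz z) : G)) e)
    · exact Or.inr e

theorem le_two_mul {P : Subgroup G} {v : G} (h : ES P z) (hv : v ∈ P) :
    Nat.card P ≤ 2 * Nat.card (P ⊓ Subgroup.centralizer ({v} : Set G) : Subgroup G) := by
  let f : P →* Multiplicative (ZMod 2) := MonoidHom.mk' (fun p => Multiplicative.ofAdd (chi p.1 v))
    fun a b => congrArg Multiplicative.ofAdd (h.chi_mul_left a.2 b.2 hv)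
  have hker : f.ker = (P ⊓ Subgroup.centralizer ({v} : Set G)).subgroupOf P := by
    ext p
    rw [MonoidHom.mem_ker, Subgroup.mem_subgroupOf, Subgroup.mem_inf, mem_centralizer_single]
    exact chi_eq_zero.trans ⟨fun hc => ⟨p.2, hc⟩, fun hc => hc.2⟩
  have e := Subgroup.card_eq_card_quotient_mul_card_subgroup f.ker
  rw [Nat.card_congr (QuotientGroup.quotientKerEquivRange f).toEquiv, hker,
    Nat.card_congr (Subgroup.subgroupOfEquivOfLe inf_le_left).toEquiv] at e
  rw [e]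
  refine Nat.mul_le_mul_right _ ((Subgroup.card_le_card_group _).trans (le_of_eq ?_))
  rw [Nat.card_congr Multiplicative.toAdd, Nat.card_zmod]

/-- The conjugate of a subgroup by `g`. -/
abbrev cj (g : G) (P : Subgroup G) : Subgroup G := P.map (MulAut.conj g).toMonoidHom

theorem mem_cj {g x : G} {P : Subgroup G} : x ∈ cj g P ↔ g⁻¹ * x * g ∈ P := by
  constructor
  · rintro ⟨p, hp, rfl⟩
    simpa [mul_assoc] using hp
  · exact fun h => ⟨_, h, by simp [mul_assoc]⟩

theorem es_cj {P : Subgroup G} (h : ES P z) (g : G) : ES (cj g P) (g * z * g⁻¹) := by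
  refine ⟨⟨z, h.mem, rfl⟩, by simp [h.ne], ?_, ?_, ?_, ?_⟩
  · calc g * z * g⁻¹ * (g * z * g⁻¹) = g * (z * z) * g⁻¹ := by group
      _ = 1 := by rw [h.sq]; group
  · rintro _ ⟨p, hp, rfl⟩
    exact (h.comm p hp).map (MulAut.conj g)
  · rintro _ ⟨q, hq, rfl⟩ hc
    rcases h.center q hq fun p hp => by
      simpa [mul_assoc] using (hc _ ⟨p, hp, rfl⟩).map (MulAut.conj g⁻¹) with e | e
    · exact Or.inl (by simp [e])
    · exact Or.inr (by simp [e])
  · rintro _ ⟨q, hq, rfl⟩ _ ⟨v, hv, rfl⟩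
    rcases h.conj q hq v hv with e | e
    · left
      rw [← map_inv, ← map_mul, ← map_mul, e]
    · right
      rw [← map_inv, ← map_mul, ← map_mul, e, map_mul]
      rfl

/-- The map to the quotient of the centraliser of a conjugate. -/
noncomputable def toQuot {s : G} (g : G) (hg : g * z * g⁻¹ = s) (R : Subgroup G)
    (hR : R ≤ Subgroup.centralizer ({s} : Set G)) : R →* (Cz z) ⧸ Q :=
  (QuotientGroup.mk' Q).comp (((MulAut.conj g⁻¹).toMonoidHom.comp R.subtype).codRestrict (Cz z) fun p =>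
    mem_centralizer_single.2 (by
      have h := (mem_centralizer_single.1 (hR p.2)).map (MulAut.conj g⁻¹)
      rw [← hg] at h
      simpa [mul_assoc] using h))

theorem two_power_le {n m : ℕ} (h1 : n ∣ 2 ^ m) (h2 : n ∣ 19595520) : n ≤ 256 := by
  obtain ⟨i, -, rfl⟩ := (Nat.dvd_prime_pow Nat.prime_two).1 h1
  by_contra h
  have : 2 ^ 9 ∣ 2 ^ i := Nat.pow_dvd_pow 2 (by
    by_contra hi
    exact h ((Nat.pow_le_pow_right (by norm_num) (show i ≤ 8 by omega)).trans (by norm_num)))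
  exact absurd (this.trans h2) (by norm_num)

/-- `z` lies in the conjugate of `Q` belonging to `s`. -/
theorem z_mem_cj (B : Bridge z Q) (hz : orderOf z = 2) (hQ : Nat.card Q = 2 ^ 13) {P : Subgroup G}
    (hP : P = Q.map (Cz z).subtype) (h : ES P z) (g : G) {s : G} (hg : g * z * g⁻¹ = s)
    (hsP : s ∈ P) (hs : s ≠ z) : z ∈ cj g P := by
  by_contra hzn
  have hcP : Nat.card P = 2 ^ 13 := by
    rw [hP, ← Nat.card_congr (Subgroup.equivMapOfInjective Q _ (Cz z).subtype_injective).toEquiv, hQ]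
  have hs1 : s ≠ 1 := by rw [← hg]; simp [h.ne]
  set R := P ⊓ Subgroup.centralizer ({s} : Set G) with hR
  let f := toQuot (Q := Q) g hg R inf_le_right
  have hker : ∀ p : R, p ∈ f.ker → (p : G) = 1 ∨ (p : G) = z ∨ (p : G) = s ∨ (p : G) = s * z := by
    intro p hp
    have hpc : (p : G) ∈ cj g P := by
      rw [mem_cj, hP]
      exact ⟨_, (QuotientGroup.eq_one_iff _).1 hp, by simp [toQuot, mul_assoc]⟩
    have hcen : ∀ q ∈ R, Commute q (p : G) := fun q hq => by
      rcases h.conj q hq.1 p p.2.1 with e | e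
      · exact mul_inv_eq_iff_eq_mul.1 e
      · exfalso
        have hnorm : q * (p : G) * q⁻¹ ∈ cj g P := by
          rw [mem_cj, hP] at hpc ⊢
          obtain ⟨a, ha, hae⟩ := hpc
          let c : Cz z := ⟨g⁻¹ * q * g, mem_centralizer_single.2 (by
            have hh := (mem_centralizer_single.1 hq.2).map (MulAut.conj g⁻¹)
            rw [← hg] at hh
            simpa [mul_assoc] using hh)⟩
          refine ⟨c * a * c⁻¹, Subgroup.Normal.conj_mem ‹Q.Normal› a ha c, ?_⟩
          show g⁻¹ * q * g * (a : G) * (g⁻¹ * q * g)⁻¹ = _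
          rw [show (a : G) = g⁻¹ * (p : G) * g from hae]
          group
        rw [e] at hnorm
        exact hzn (by simpa using mul_mem (inv_mem hpc) hnorm)
    obtain ⟨q0, hq0, hq0s⟩ := h.exists_conj_ne hsP hs1 hs
    have h1 : chi q0 s = 1 := by
      unfold chi
      rw [hq0s, if_neg (by simpa using h.ne)]
    -- an element orthogonal to `R` and `q0` is central
    have hall : ∀ x ∈ P, (∀ q ∈ R, Commute q x) → chi q0 x = 0 → x = 1 ∨ x = z := fun x hx hxR hx0 =>
      h.center x hx fun q hq => by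
        have hdec : ∀ q ∈ P, chi q s = 0 → Commute q x := fun q hq hqs =>
          hxR q ⟨hq, mem_centralizer_single.2 (chi_eq_zero.1 hqs)⟩
        by_cases hqs : chi q s = 0
        · exact hdec q hq hqs
        · have hqs1 : chi q s = 1 := (by decide : ∀ a : ZMod 2, a ≠ 0 → a = 1) _ hqs
          have hc := hdec (q0 * q) (mul_mem hq0 hq) (by
            rw [h.chi_mul_left hq0 hq hsP, h1, hqs1]; decide)
          have e := h.chi_mul_left hq0 hq hx
          rw [chi_eq_zero.2 hc, hx0, zero_add] at e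
          exact chi_eq_zero.1 e.symm
    by_cases hp0 : chi q0 (p : G) = 0
    · rcases hall p p.2.1 hcen hp0 with e | e
      · exact Or.inl e
      · exact Or.inr (Or.inl e)
    · have hp1 : chi q0 (p : G) = 1 := (by decide : ∀ a : ZMod 2, a ≠ 0 → a = 1) _ hp0
      have hss : s * s = 1 := by
        rw [← hg]
        calc g * z * g⁻¹ * (g * z * g⁻¹) = g * (z * z) * g⁻¹ := by group
          _ = 1 := by rw [h.sq]; group
      have hres := hall (s * p) (mul_mem hsP p.2.1)
        (fun q hq => (mem_centralizer_single.1 hq.2).mul_right (hcen q hq))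
        (by rw [h.chi_mul_right hq0 hsP p.2.1, h1, hp1]; decide)
      have hrec : ∀ y, s * (p : G) = y → (p : G) = s * y := fun y hy => by
        rw [← hy, ← mul_assoc, hss, one_mul]
      rcases hres with e | e
      · exact Or.inr (Or.inr (Or.inl (by rw [hrec _ e, mul_one])))
      · exact Or.inr (Or.inr (Or.inr (hrec _ e)))
  have h4 : Nat.card f.ker ≤ 4 := by
    classical
    have hsub : Nat.card f.ker ≤ Nat.card ({1, z, s, s * z} : Finset G) := by
      refine Nat.card_le_card_of_injective (fun p => ⟨((p : R) : G), ?_⟩) fun a b hab => ?_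
      · rcases hker p p.2 with e | e | e | e <;> simp [e]
      · exact Subtype.ext (Subtype.ext (Subtype.mk.inj hab))
    rw [Nat.card_eq_finsetCard] at hsub
    exact hsub.trans Finset.card_le_four
  have e := Subgroup.card_eq_card_quotient_mul_card_subgroup f.ker
  rw [Nat.card_congr (QuotientGroup.quotientKerEquivRange f).toEquiv] at e
  have h256 : Nat.card f.range ≤ 256 := two_power_le (m := 13)
    ((Dvd.intro _ e.symm).trans ((Subgroup.card_dvd_of_le inf_le_left).trans hcP.dvd))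
    (B.D.cardW ▸ Subgroup.card_subgroup_dvd_card f.range)
  have h2 : Nat.card P ≤ 2 * Nat.card R := le_two_mul h hsP
  rw [hcP, e] at h2
  have := Nat.mul_le_mul h256 h4
  omega

/-- A lift commuting with the involution. -/
theorem exists_lift (B : Bridge z Q) (hz : orderOf z = 2) (hzQ : z ∈ Q.map (Cz z).subtype) (s : Q)
    (g : G) (hg : g * z * g⁻¹ = ((s : Cz z) : G)) (hs : ((s : Cz z) : G) ≠ z) {w : (Cz z) ⧸ Q}
    (hw : w • B.π s = B.π s) : ∃ c' : Cz z, (QuotientGroup.mk c' : (Cz z) ⧸ Q) = w ∧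
      Commute (c' : G) ((s : Cz z) : G) := by
  obtain ⟨P, hP⟩ : ∃ P, P = Q.map (Cz z).subtype := ⟨_, rfl⟩
  have hES : ES P z := hP ▸ es_map B hz hzQ
  have hsP : ((s : Cz z) : G) ∈ P := hP ▸ ⟨_, s.2, rfl⟩
  obtain ⟨c, rfl⟩ := QuotientGroup.mk_surjective w
  obtain ⟨c', hc', hcs⟩ : ∃ c' : Cz z, (QuotientGroup.mk c' : (Cz z) ⧸ Q) = QuotientGroup.mk c ∧
      c' * s * c'⁻¹ = s := by
    have h := B.π_conj c s ⟨c * s * c⁻¹, Subgroup.Normal.conj_mem ‹Q.Normal› s s.2 c⟩ rfl
    rw [hw] at h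
    rcases B.fibre h with e | e
    · exact ⟨c, rfl, congrArg Subtype.val e⟩
    · have hs1 : ((s : Cz z) : G) ≠ 1 := by rw [← hg]; simp [hES.ne]
      obtain ⟨u, hu, hus⟩ := hES.exists_conj_ne hsP hs1 hs
      rw [hP] at hu
      obtain ⟨u', hu', rfl⟩ := hu
      refine ⟨u' * c, ?_, Subtype.ext ?_⟩
      · rw [QuotientGroup.mk_mul, (QuotientGroup.eq_one_iff u').2 hu', one_mul]
      · have e' : (c : G) * ((s : Cz z) : G) * (c : G)⁻¹ = ((s : Cz z) : G) * z := e
        show (u' : G) * (c : G) * ((s : Cz z) : G) * ((u' : G) * (c : G))⁻¹ = ((s : Cz z) : G)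
        calc _ = (u' : G) * ((c : G) * ((s : Cz z) : G) * (c : G)⁻¹) * (u' : G)⁻¹ := by group
          _ = ((u' : G) * ((s : Cz z) : G) * (u' : G)⁻¹) * ((u' : G) * z * (u' : G)⁻¹) := by
              rw [e']; group
          _ = ((s : Cz z) : G) * z * z := by
              have hzu : Commute (u' : G) z := Subgroup.mem_centralizer_singleton_iff.1 u'.2
              rw [show (u' : G) * ((s : Cz z) : G) * (u' : G)⁻¹ = _ from hus, hzu.eq, mul_inv_cancel_right]
          _ = _ := by rw [mul_assoc, hES.sq, mul_one]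
  exact ⟨c', hc', mul_inv_eq_iff_eq_mul.1 (congrArg Subtype.val hcs)⟩

/-- The image of the extraspecial subgroup of a conjugate. -/
noncomputable def bigE (g : G) : Subgroup ((Cz z) ⧸ Q) :=
  ((QuotientGroup.mk' Q).comp (Subgroup.inclusion
    (inf_le_right : cj g (Q.map (Cz z).subtype) ⊓ Cz z ≤ Cz z))).range

theorem bigE_spec (B : Bridge z Q) (hz : orderOf z = 2) (hzQ : z ∈ Q.map (Cz z).subtype)
    (hQ : Nat.card Q = 2 ^ 13) (s : Q) (g : G) (hg : g * z * g⁻¹ = ((s : Cz z) : G))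
    (hs : ((s : Cz z) : G) ≠ z) :
    bigE (Q := Q) g ≤ MulAction.stabilizer _ (B.π s) ∧
      (∀ w ∈ MulAction.stabilizer ((Cz z) ⧸ Q) (B.π s), ∀ e ∈ bigE (Q := Q) g,
        w * e * w⁻¹ ∈ bigE (Q := Q) g) ∧
      IsPGroup 2 (bigE (Q := Q) g) ∧ 16 < Nat.card (bigE (Q := Q) g) := by
  unfold bigE
  set P := Q.map (Cz z).subtype with hP
  have hES : ES P z := hP ▸ es_map B hz hzQ
  have hsP : ((s : Cz z) : G) ∈ P := hP ▸ ⟨_, s.2, rfl⟩
  have hzg := z_mem_cj B hz hQ hP hES g hg hsP hs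
  have hES' : ES (cj g P) ((s : Cz z) : G) := hg ▸ es_cj hES g
  have hcP : Nat.card P = 2 ^ 13 := by
    rw [hP, ← Nat.card_congr (Subgroup.equivMapOfInjective Q _ (Cz z).subtype_injective).toEquiv, hQ]
  have hcg : Nat.card (cj g P) = 2 ^ 13 := by
    rw [← Nat.card_congr (Subgroup.equivMapOfInjective P _ (MulAut.conj g).injective).toEquiv, hcP]
  have hR2 : IsPGroup 2 (cj g P) := IsPGroup.of_card (n := 13) hcg
  set R := cj g P ⊓ Cz z with hR
  have hRc : Nat.card (cj g P) ≤ 2 * Nat.card R := le_two_mul hES' hzg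
  have hRC : R ≤ Cz z := inf_le_right
  let f : R →* (Cz z) ⧸ Q := (QuotientGroup.mk' Q).comp (Subgroup.inclusion hRC)
  refine ⟨?_, ?_, ?_, ?_⟩
  · rintro _ ⟨r, rfl⟩
    rw [MulAction.mem_stabilizer_iff]
    refine B.π_conj _ s s (Subtype.ext ?_)
    have hc : Commute (r : G) ((s : Cz z) : G) := hES'.comm r r.2.1
    show ((s : Cz z) : G) = (r : G) * ((s : Cz z) : G) * (r : G)⁻¹
    rw [hc.eq, mul_inv_cancel_right]
  · rintro w hw _ ⟨r, rfl⟩
    obtain ⟨c', hc', hcs'⟩ := exists_lift B hz hzQ s g hg hs hw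
    rw [← hc']
    have hcr : (c' : G) * (r : G) * (c' : G)⁻¹ ∈ R := by
      refine ⟨?_, Subgroup.mul_mem _ (Subgroup.mul_mem _ c'.2 r.2.2) (Subgroup.inv_mem _ c'.2)⟩
      have hrg : g⁻¹ * (r : G) * g ∈ P := mem_cj.1 r.2.1
      rw [hP] at hrg
      obtain ⟨a, ha, hae⟩ := hrg
      let d : Cz z := ⟨g⁻¹ * c' * g, mem_centralizer_single.2 (by
        have hh := hcs'.map (MulAut.conj g⁻¹)
        rw [← hg] at hh
        simpa [mul_assoc] using hh)⟩
      refine mem_cj.2 ⟨d * a * d⁻¹, Subgroup.Normal.conj_mem ‹Q.Normal› a ha d, ?_⟩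
      show g⁻¹ * (c' : G) * g * (a : G) * (g⁻¹ * (c' : G) * g)⁻¹ = _
      rw [show (a : G) = g⁻¹ * (r : G) * g from hae]
      group
    exact ⟨⟨_, hcr⟩, rfl⟩
  · exact (hR2.to_le inf_le_left).of_surjective f.rangeRestrict f.rangeRestrict_surjective
  · have e := Subgroup.card_eq_card_quotient_mul_card_subgroup f.ker
    rw [Nat.card_congr (QuotientGroup.quotientKerEquivRange f).toEquiv] at e
    set A := R ⊓ P with hA
    have hker : Nat.card f.ker ≤ Nat.card A := by
      refine Nat.card_le_card_of_injective (fun p => ⟨((p : R) : G), (p : R).2, ?_⟩) fun a b hab =>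
        Subtype.ext (Subtype.ext (Subtype.mk.inj hab))
      rw [hP]
      exact ⟨_, (QuotientGroup.eq_one_iff _).1 p.2, rfl⟩
    have hA7 : Nat.card A ≤ 2 ^ 7 := by
      refine Cfsg.Agent.Lib.FischerLarge45.card_le_of_abelian hES hcP A inf_le_right
        ⟨⟨hzg, mem_centralizer_single.2 (Commute.refl z)⟩, hES.mem⟩ fun a ha => ?_
      rcases hES.sq_cases ha.2 with e1 | e1
      · exact e1
      · rcases hES'.sq_cases ha.1.1 with e2 | e2
        · exact e2
        · exact absurd (e2.symm.trans e1) hs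
    have := Nat.mul_le_mul_left (Nat.card f.range) (hker.trans hA7)
    show 16 < Nat.card f.range
    omega

/-- The stabiliser of the vector of a conjugate of `z` has a large normal 2-subgroup. -/
theorem exists_large (B : Bridge z Q) (hz : orderOf z = 2) (hzQ : z ∈ Q.map (Cz z).subtype)
    (hQ : Nat.card Q = 2 ^ 13) (s : Q) (g : G) (hg : g * z * g⁻¹ = ((s : Cz z) : G))
    (hs : ((s : Cz z) : G) ≠ z) :
    ∃ E : Subgroup ((Cz z) ⧸ Q), E ≤ MulAction.stabilizer _ (B.π s) ∧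
      (∀ w ∈ MulAction.stabilizer ((Cz z) ⧸ Q) (B.π s), ∀ e ∈ E, w * e * w⁻¹ ∈ E) ∧
      IsPGroup 2 E ∧ 16 < Nat.card E :=
  ⟨_, bigE_spec B hz hzQ hQ s g hg hs⟩

/-- A conjugate of `z` in `Q` has its vector in the large orbit, and there is no transposition. -/
theorem conj_isR (B : Bridge z Q) (hz : orderOf z = 2) (hzQ : z ∈ Q.map (Cz z).subtype) (hQ : Nat.card Q = 2 ^ 13)
    (F : NFrame B.D) (s : Q) (g : G) (hg : g * z * g⁻¹ = ((s : Cz z) : G))
    (hs : ((s : Cz z) : G) ≠ z) : ∃ c, F.vec c = B.π s ∧ IsR c ∧ NoSwap F := by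
  obtain ⟨E, hle, hn, hp, hbig⟩ := exists_large B hz hzQ hQ s g hg hs
  have hs1 : s ≠ 1 := fun h => by
    have hne : z ≠ 1 := fun hh => by simp [hh] at hz
    rw [h] at hg
    exact hne (conj_eq_one_iff.1 hg)
  have hs2 : s * s = 1 := Subtype.ext (Subtype.ext (by
    show ((s : Cz z) : G) * ((s : Cz z) : G) = 1
    rw [← hg]
    calc g * z * g⁻¹ * (g * z * g⁻¹) = g * (z * z) * g⁻¹ := by group
      _ = 1 := by rw [sq_z hz]; group))
  obtain ⟨h0, hq⟩ := B.sing hs2 hs1 hs
  obtain ⟨c, hc, hU | hR⟩ := F.exists_class h0 hq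
  · exfalso
    obtain ⟨w, hw0⟩ := F.transU c cU hU Model.isU_cU
    have hw : w • B.π s = F.vec cU := hc ▸ hw0
    have hst : ∀ g, g ∈ MulAction.stabilizer _ (F.vec cU) ↔
        w⁻¹ * g * w ∈ MulAction.stabilizer ((Cz z) ⧸ Q) (B.π s) := fun g => by
      rw [MulAction.mem_stabilizer_iff, MulAction.mem_stabilizer_iff, mul_smul, mul_smul, inv_smul_eq_iff, hw]
    have h4 := F.card_normal_le_four (E.map (MulAut.conj w).toMonoidHom)
      (by rintro _ ⟨e, he, rfl⟩; rw [hst]; simpa [mul_assoc] using hle he)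
      (by
        rintro g' hg' _ ⟨e, he, rfl⟩
        exact ⟨(w⁻¹ * g' * w) * e * (w⁻¹ * g' * w)⁻¹, hn _ ((hst g').1 hg') e he, by simp [mul_assoc]⟩)
      (hp.map _)
    rw [← Nat.card_congr (Subgroup.equivMapOfInjective E _ (MulAut.conj w).injective).toEquiv] at h4
    omega
  · exact ⟨c, hc, hR, noSwap_of_large F hR E (hc.symm ▸ hle) (hc.symm ▸ hn) hp hbig⟩

end Cfsg.Agent.Lib.FischerLarge99
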