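import Cfsg.Agent.Lib.G24.Field
import Cfsg.Agent.Lib.FischerMTypes.PairM22

/-!
Semilinear isometries of the Hermitian space of dimension four over four elements act on `SU(4, 2)`;
only scalars act trivially.

Owner: helper99.
-/

set_option autoImplicit false
set_option linter.style.haveILetI false
set_option linter.unusedSectionVars false

namespace Cfsg.Agent.Lib.FischerLarge99

open Cfsg.Agent.Lib.G24
open scoped Matrix

/-- The Hermitian space. -/
abbrev V4 : Type := Fin 4 → K4

/-- The involutive automorphism of the field. -/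
def conjK : K4 ≃+* K4 where
  toFun x := x * x
  invFun x := x * x
  left_inv := by intro x; revert x; decide +kernel
  right_inv := by intro x; revert x; decide +kernel
  map_mul' := by intro x y; revert x y; decide +kernel
  map_add' := by intro x y; revert x y; decide +kernel

/-- The special unitary group used here. -/
abbrev S4 : Subgroup (Matrix.SpecialLinearGroup (Fin 4) K4) := Cfsg.SU 4 K4 2

theorem cardK4 : Fintype.card K4 = 2 ^ 2 := by rw [K4.card_eq]; norm_num

/-- A semilinear isometry. -/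
structure Sml where
  /-- The map. -/
  T : V4 ≃+ V4
  /-- The field automorphism. -/
  τ : K4 ≃+* K4
  smul : ∀ (a : K4) c, T (a • c) = τ a • T c
  herm : ∀ c d, Cfsg.hermForm 4 K4 2 (T c) (T d) = τ (Cfsg.hermForm 4 K4 2 c d)

namespace Sml

variable (s : Sml)

theorem smul_symm (a : K4) (c : V4) : s.T.symm (a • c) = s.τ.symm a • s.T.symm c :=
  s.T.injective (by rw [s.smul, AddEquiv.apply_symm_apply, AddEquiv.apply_symm_apply,
    RingEquiv.apply_symm_apply])

theorem herm_symm (c d : V4) :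
    Cfsg.hermForm 4 K4 2 (s.T.symm c) (s.T.symm d) = s.τ.symm (Cfsg.hermForm 4 K4 2 c d) :=
  s.τ.injective (by rw [← s.herm, AddEquiv.apply_symm_apply, AddEquiv.apply_symm_apply,
    RingEquiv.apply_symm_apply])

/-- The conjugate of a linear map. -/
def conjLin (A : Matrix (Fin 4) (Fin 4) K4) : V4 →ₗ[K4] V4 where
  toFun u := s.T (A *ᵥ s.T.symm u)
  map_add' u v := by rw [map_add, Matrix.mulVec_add, map_add]
  map_smul' a u := by
    rw [RingHom.id_apply, s.smul_symm, Matrix.mulVec_smul, s.smul, RingEquiv.apply_symm_apply]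

/-- The conjugate matrix. -/
def conjMat (A : Matrix (Fin 4) (Fin 4) K4) : Matrix (Fin 4) (Fin 4) K4 :=
  LinearMap.toMatrix' (s.conjLin A)

theorem conjMat_mulVec (A : Matrix (Fin 4) (Fin 4) K4) (u : V4) :
    s.conjMat A *ᵥ u = s.T (A *ᵥ s.T.symm u) :=
  LinearMap.toMatrix'_mulVec _ u

/-- The matrix of the map. -/
def mat : Matrix (Fin 4) (Fin 4) K4 := Matrix.of fun i j => s.T (Pi.single j 1) i

theorem T_eq (w : V4) : s.T w = s.mat *ᵥ fun j => s.τ (w j) := by
  conv_lhs => rw [pi_eq_sum_univ' w]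
  rw [map_sum]
  simp only [s.smul]
  funext i
  simp [Matrix.mulVec, dotProduct, mat, mul_comm]

theorem det_mat : s.mat.det ≠ 0 := by
  have hu : IsUnit s.mat := by
    rw [← Matrix.mulVec_injective_iff_isUnit]
    intro u v h
    have e : s.T (fun j => s.τ.symm (u j)) = s.T (fun j => s.τ.symm (v j)) := by
      rw [s.T_eq, s.T_eq]; simpa using h
    have e' := s.T.injective e
    funext j
    exact s.τ.symm.injective (congrFun e' j)
  exact ((Matrix.isUnit_iff_isUnit_det _).1 hu).ne_zero

theorem det_conjMat (A : Matrix (Fin 4) (Fin 4) K4) : (s.conjMat A).det = s.τ A.det := by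
  have h : s.conjMat A * s.mat = s.mat * A.map s.τ := by
    refine Matrix.toLin'.injective (LinearMap.ext fun u => ?_)
    rw [Matrix.toLin'_apply, Matrix.toLin'_apply, ← Matrix.mulVec_mulVec, ← Matrix.mulVec_mulVec]
    have e : s.mat *ᵥ u = s.T (fun j => s.τ.symm (u j)) := by rw [s.T_eq]; simp
    rw [e, s.conjMat_mulVec, AddEquiv.symm_apply_apply, s.T_eq]
    congr 1
    funext i
    simp [Matrix.mulVec, dotProduct, map_sum]
  have h' := congrArg Matrix.det h
  have hd : (A.map s.τ).det = s.τ A.det := ((s.τ : K4 →+* K4).map_det A).symm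
  rw [Matrix.det_mul, Matrix.det_mul, hd, mul_comm s.mat.det] at h'
  exact mul_right_cancel₀ s.det_mat h'

/-- The action on the special unitary group. -/
def act (A : S4) : S4 :=
  ⟨⟨s.conjMat A.1.1, by rw [s.det_conjMat, A.1.2, map_one]⟩, fun u v => by
    show Cfsg.hermForm 4 K4 2 (s.conjMat A.1.1 *ᵥ u) (s.conjMat A.1.1 *ᵥ v) = _
    rw [s.conjMat_mulVec, s.conjMat_mulVec, s.herm, Lib.Unitary.mem_SU_iff.1 A.2, s.herm_symm,
      RingEquiv.apply_symm_apply]⟩

theorem act_mulVec (A : S4) (u : V4) : (s.act A).1.1 *ᵥ u = s.T (A.1.1 *ᵥ s.T.symm u) :=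
  s.conjMat_mulVec _ u

end Sml

theorem ext_mulVec {A B : S4} (h : ∀ u : V4, A.1.1 *ᵥ u = B.1.1 *ᵥ u) : A = B :=
  Subtype.ext (Subtype.ext (Matrix.toLin'.injective (LinearMap.ext fun u => by
    rw [Matrix.toLin'_apply, Matrix.toLin'_apply]; exact h u)))

theorem coe_mul_mulVec (A B : S4) (u : V4) : (A * B).1.1 *ᵥ u = A.1.1 *ᵥ (B.1.1 *ᵥ u) := by
  rw [Matrix.mulVec_mulVec]; rfl

/-- The action as a homomorphism. -/
def Sml.actHom (s : Sml) : S4 →* S4 :=
  MonoidHom.mk' s.act fun A B => ext_mulVec fun u => by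
    rw [coe_mul_mulVec, s.act_mulVec, s.act_mulVec, s.act_mulVec, AddEquiv.symm_apply_apply,
      coe_mul_mulVec]

/-- A family of semilinear isometries compatible with a group law gives automorphisms. -/
noncomputable def autHom {X : Type*} [Group X] (S : X → Sml)
    (hmul : ∀ x y c, (S (x * y)).T c = (S x).T ((S y).T c)) : X →* MulAut S4 :=
  have h1 : ∀ c, (S 1).T c = c := fun c => by
    have h := hmul 1 1 c
    rw [mul_one] at h
    exact ((S 1).T.injective h).symm
  have hone : ∀ A, (S 1).act A = A := fun A => ext_mulVec fun u => by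
    rw [Sml.act_mulVec, h1]
    exact congrArg _ ((S 1).T.injective (by rw [AddEquiv.apply_symm_apply, h1]))
  have hcomp : ∀ x y A, (S (x * y)).act A = (S x).act ((S y).act A) := fun x y A => ext_mulVec fun u => by
    have e : (S (x * y)).T.symm u = (S y).T.symm ((S x).T.symm u) := (S (x * y)).T.injective (by
      rw [AddEquiv.apply_symm_apply, hmul, AddEquiv.apply_symm_apply, AddEquiv.apply_symm_apply])
    rw [Sml.act_mulVec, Sml.act_mulVec, Sml.act_mulVec, hmul, e]
  let e : X → MulAut S4 := fun x =>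
    MonoidHom.toMulEquiv (S x).actHom (S x⁻¹).actHom
      (MonoidHom.ext fun A => by
        show (S x⁻¹).act ((S x).act A) = A
        rw [← hcomp, inv_mul_cancel, hone])
      (MonoidHom.ext fun A => by
        show (S x).act ((S x⁻¹).act A) = A
        rw [← hcomp, mul_inv_cancel, hone])
  MonoidHom.mk' e fun x y => MulEquiv.ext fun A => hcomp x y A

theorem autHom_apply {X : Type*} [Group X] (S : X → Sml)
    (hmul : ∀ x y c, (S (x * y)).T c = (S x).T ((S y).T c)) (x : X) (A : S4) :
    autHom S hmul x A = (S x).act A := rfl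

/-- A diagonal matrix with two non-trivial entries. -/
def dd (i k : Fin 4) : Fin 4 → K4 := fun a => if a = i then .w else if a = k then .v else 1

theorem dd_spec : ∀ i k : Fin 4, i ≠ k →
    (Matrix.diagonal (dd i k)).det = 1 ∧ ∀ a, dd i k a * dd i k a ^ 2 = 1 := by
  intro i k h
  refine ⟨?_, fun a => ?_⟩
  · rw [Matrix.det_diagonal]; revert i k; decide +kernel
  · revert i k a; decide +kernel

/-- A transposition matrix. -/
def sw (i k : Fin 4) : Matrix (Fin 4) (Fin 4) K4 :=
  Matrix.of fun a b => if Equiv.swap i k a = b then 1 else 0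

theorem sw_det : ∀ p : Fin 4 × Fin 4, (sw p.1 p.2).det = 1 := by decide +kernel

theorem sw_mulVec (i k : Fin 4) (u : V4) : sw i k *ᵥ u = fun a => u (Equiv.swap i k a) := by
  funext a
  simp [sw, Matrix.mulVec, dotProduct]

/-- A diagonal element. -/
def ddS (i k : Fin 4) (h : i ≠ k) : S4 :=
  ⟨⟨Matrix.diagonal (dd i k), (dd_spec i k h).1⟩, fun u v => by
    show Cfsg.hermForm 4 K4 2 (Matrix.diagonal (dd i k) *ᵥ u) (Matrix.diagonal (dd i k) *ᵥ v) = _
    refine Finset.sum_congr rfl fun a _ => ?_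
    rw [Matrix.mulVec_diagonal, Matrix.mulVec_diagonal]
    calc dd i k a * u a * (dd i k a * v a) ^ 2 = dd i k a * dd i k a ^ 2 * (u a * v a ^ 2) := by ring
      _ = u a * v a ^ 2 := by rw [(dd_spec i k h).2, one_mul]⟩

/-- A transposition element. -/
def swS (i k : Fin 4) : S4 :=
  ⟨⟨sw i k, sw_det (i, k)⟩, fun u v => by
    show Cfsg.hermForm 4 K4 2 (sw i k *ᵥ u) (sw i k *ᵥ v) = _
    rw [sw_mulVec, sw_mulVec]
    exact Equiv.sum_comp (Equiv.swap i k) fun a => u a * v a ^ 2⟩

theorem eq_zero_of_w_mul : ∀ y : K4, K4.w * y = y → y = 0 := by decide +kernel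

/-- Only linear scalars act trivially. -/
theorem Sml.scalar (s : Sml) (h : ∀ A : S4, s.act A = A) :
    (∀ a, s.τ a = a) ∧ ∃ l : K4, l ≠ 0 ∧ ∀ c, s.T c = l • c := by
  have hc : ∀ (A : S4) (u : V4), s.T (A.1.1 *ᵥ u) = A.1.1 *ᵥ s.T u := fun A u => by
    have e := s.act_mulVec A (s.T u)
    rw [h A, AddEquiv.symm_apply_apply] at e
    exact e.symm
  have hdiag : ∀ i k, i ≠ k → ∀ j a, dd i k a * s.T (Pi.single j 1) a =
      s.τ (dd i k j) * s.T (Pi.single j 1) a := fun i k hik j a => by
    have e : Matrix.diagonal (dd i k) *ᵥ (Pi.single j 1 : V4) = dd i k j • (Pi.single j 1 : V4) := by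
      funext b
      rw [Matrix.mulVec_diagonal, Pi.smul_apply, smul_eq_mul]
      rcases eq_or_ne b j with rfl | hb
      · rfl
      · rw [Pi.single_eq_of_ne hb, mul_zero, mul_zero]
    have h1 : s.T (Matrix.diagonal (dd i k) *ᵥ (Pi.single j 1 : V4)) =
        Matrix.diagonal (dd i k) *ᵥ s.T (Pi.single j 1) := hc (ddS i k hik) (Pi.single j 1)
    rw [e, s.smul] at h1
    have h2 := congrFun h1 a
    rw [Pi.smul_apply, smul_eq_mul, Matrix.mulVec_diagonal] at h2
    exact h2.symm
  have hex : ∀ i j : Fin 4, i ≠ j → ∃ k, k ≠ i ∧ k ≠ j := by decide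
  have hoff : ∀ j a, a ≠ j → s.T (Pi.single j 1) a = 0 := fun j a haj => by
    obtain ⟨k, hka, hkj⟩ := hex a j haj
    have e := hdiag a k hka.symm j a
    rw [show dd a k j = 1 by simp [dd, haj.symm, hkj.symm], show dd a k a = K4.w by simp [dd],
      map_one, one_mul] at e
    exact eq_zero_of_w_mul _ e
  have hne : ∀ j, s.T (Pi.single j 1) j ≠ 0 := fun j hj => by
    have e0 : s.T (Pi.single j 1) = 0 := funext fun a => by
      rcases eq_or_ne a j with rfl | ha
      · exact hj
      · exact hoff j a ha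
    have := congrFun ((AddEquiv.map_eq_zero_iff s.T).1 e0) j
    simp at this
  have hw : s.τ K4.w = K4.w := by
    have e := hdiag 0 1 (by decide) 0 0
    rw [show dd 0 1 0 = K4.w from rfl] at e
    exact (mul_right_cancel₀ (hne 0) e).symm
  have hτ : ∀ a, s.τ a = a := fun a => by
    cases a
    · exact map_zero s.τ
    · exact map_one s.τ
    · exact hw
    · show s.τ (K4.w * K4.w) = K4.w * K4.w
      rw [map_mul, hw]
  refine ⟨hτ, s.T (Pi.single 0 1) 0, hne 0, fun c => ?_⟩
  have heq : ∀ j, s.T (Pi.single j 1) j = s.T (Pi.single 0 1) 0 := fun j => by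
    have e : s.T (sw 0 j *ᵥ (Pi.single 0 1 : V4)) = sw 0 j *ᵥ s.T (Pi.single 0 1) :=
      hc (swS 0 j) (Pi.single 0 1)
    rw [sw_mulVec, sw_mulVec] at e
    have e1 : (fun a => (Pi.single 0 1 : V4) (Equiv.swap 0 j a)) = Pi.single j 1 := funext fun a => by
      simp [Pi.single_apply, Equiv.swap_apply_eq_iff]
    rw [e1] at e
    have := congrFun e j
    rwa [Equiv.swap_apply_right] at this
  rw [s.T_eq]
  funext a
  simp only [Matrix.mulVec, dotProduct, Sml.mat, Matrix.of_apply, hτ]
  rw [Finset.sum_eq_single a (fun b _ hb => by rw [hoff b a hb.symm, zero_mul])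
    (fun hn => absurd (Finset.mem_univ a) hn), heq, Pi.smul_apply, smul_eq_mul]

theorem card_aut_S4 : Nat.card (MulAut S4) = 51840 :=
  Lib.FischerMTypes.PairModelM22.card_aut_SU_four cardK4

/-- `Aut SU(4, 2)` is the orthogonal group. -/
theorem nonempty_aut_equiv : Nonempty (MulAut S4 ≃* MulAut (Cfsg.PSU 4 K4 2)) :=
  ⟨MulAut.congr (Lib.FischerMTypes.PairModelM22.psuEquiv cardK4)⟩

end Cfsg.Agent.Lib.FischerLarge99
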