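import Cfsg.Agent.Lib.LargeFischer13.Orbits
import Cfsg.Agent.Lib.FischerLarge99.Herm

/-!
The frame as coordinates in six dimensions over four elements: the group acts by semilinear isometries.

Owner: helper99.
-/

set_option autoImplicit false
set_option linter.style.haveILetI false
set_option linter.unusedSectionVars false

namespace Cfsg.Agent.Lib.FischerLarge99

open Cfsg.Agent.Lib.G24 Cfsg.Agent.Lib.LargeFischer13
open Cfsg.Agent.Lib.LargeFischer13.Model

/-- The six-dimensional space. -/
abbrev V6 : Type := Fin 6 → K4

/-- Zero or a phase. -/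
def code : K4 → Option (ZMod 3)
  | .z => none
  | .e => some 0
  | .w => some 1
  | .v => some 2

/-- The element of a phase. -/
def uncode : Option (ZMod 3) → K4
  | none => .z
  | some k => if k = 0 then .e else if k = 1 then .w else .v

theorem code_uncode : ∀ o, code (uncode o) = o := by decide +kernel

theorem uncode_code : ∀ a, uncode (code a) = a := by decide +kernel

/-- The coordinates of a vector. -/
def toCoord (c : V6) : Coord := fun i => code (c i)

theorem toCoord_bijective : Function.Bijective toCoord :=
  Function.bijective_iff_has_inverse.2 ⟨fun c i => uncode (c i),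
    fun c => funext fun _ => uncode_code _, fun c => funext fun _ => code_uncode _⟩

/-- The parity as a field element. -/
def bit : ZMod 2 → K4 := fun a => if a = 0 then 0 else 1

theorem natCast_eq_bit (n : ℕ) : (n : K4) = bit (n : ZMod 2) := by
  induction n with
  | zero => rw [Nat.cast_zero, Nat.cast_zero]; rfl
  | succ n ih =>
    rw [Nat.cast_succ, Nat.cast_succ, ih]
    generalize (n : ZMod 2) = a
    revert a
    decide +kernel

theorem norm_code : ∀ a : K4, a * a ^ 2 = if (code a).isSome then 1 else 0 := by decide +kernel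

theorem herm_self (c : V6) : Cfsg.hermForm 6 K4 2 c c = bit (wt (toCoord c) : ZMod 2) := by
  rw [← natCast_eq_bit]
  simp only [Cfsg.hermForm, norm_code, Finset.sum_boole]
  rfl

theorem conjK_apply (x : K4) : conjK x = x * x := rfl

theorem herm_conj (c d : V6) : conjK (Cfsg.hermForm 6 K4 2 c d) = Cfsg.hermForm 6 K4 2 d c := by
  simp only [Cfsg.hermForm, map_sum]
  refine Finset.sum_congr rfl fun i _ => ?_
  generalize c i = a, d i = b
  revert a b
  decide +kernel

theorem solve_id : ∀ a b : K4, a + conjK a = b + conjK b →
    K4.w * a + conjK (K4.w * a) = K4.w * b + conjK (K4.w * b) → a = b := by decide +kernel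

theorem solve_conj : ∀ a b : K4, a + conjK a = b + conjK b →
    K4.v * a + conjK (K4.v * a) = K4.w * b + conjK (K4.w * b) → a = conjK b := by decide +kernel

theorem eq_wts : ∀ a : K4, a = 0 ∨ a = 1 ∨ a = K4.w ∨ a = K4.w * K4.w := by decide +kernel

variable {W : Type*} [Group W] [Finite W] {V : Type*} [AddCommGroup V] [Finite V]
  [DistribMulAction W V] {D : Core W V}

theorem trace_zero (F : Frame D) (x : V) : x + D.h • x + D.h • D.h • x = 0 := by
  have hfree : ∀ v : V, D.h • v = v → v = 0 := by
    intro v hv
    obtain ⟨c, rfl⟩ := F.exists_coord v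
    have hh : F.IsMono D.h 1 (fun _ => 1) := fun i => by
      simp [Core.lineEl, show (1 : ZMod 3).val = 1 from rfl]
    rw [F.smul_vec D.h_mem hh, move_one] at hv
    have e := F.vec_inj hv
    rw [show c = fun _ => none from funext fun i => by
      have := congrFun e i
      cases hc : c i with
      | none => rfl
      | some k => simp [shift, hc] at this]
    exact F.vec_zero
  refine hfree _ ?_
  have h3 : D.h • D.h • D.h • x = x := D.smul_cube D.h_A x
  rw [smul_add, smul_add, h3]
  abel

/-- An element on one line. -/
def el (F : Frame D) (i : Fin 6) (a : K4) : V := D.lineEl (F.v i) (code a)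

theorem el_add (F : Frame D) (i : Fin 6) (a b : K4) : el F i (a + b) = el F i a + el F i b := by
  have ht := trace_zero F (F.v i)
  have h1 : D.h • D.h • F.v i = F.v i + D.h • F.v i := by
    rw [← add_right_inj (F.v i + D.h • F.v i), ht, D.two]
  have h2 : F.v i = D.h • F.v i + D.h • D.h • F.v i := by
    rw [h1, add_left_comm, D.two, add_zero]
  have h3 : D.h • F.v i = F.v i + D.h • D.h • F.v i := by
    rw [h1, ← add_assoc, D.two, zero_add]
  have e0 : el F i .e = F.v i := by
    simp [el, code, Core.lineEl]
  have e1 : el F i .w = D.h • F.v i := by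
    simp [el, code, Core.lineEl, show (1 : ZMod 3).val = 1 from rfl]
  have e2 : el F i .v = D.h • D.h • F.v i := by
    simp [el, code, Core.lineEl, show (2 : ZMod 3).val = 2 from rfl, sq, mul_smul]
  have ez : el F i .z = 0 := rfl
  cases a <;> cases b
  · show el F i .z = _; rw [ez, add_zero]
  · show el F i .e = _; rw [ez, zero_add]
  · show el F i .w = _; rw [ez, zero_add]
  · show el F i .v = _; rw [ez, zero_add]
  · show el F i .e = _; rw [ez, add_zero]
  · show el F i .z = _; rw [ez, D.two]
  · show el F i .v = _; rw [e0, e1, e2, h1]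
  · show el F i .w = _; rw [e0, e1, e2]; exact h3
  · show el F i .w = _; rw [ez, add_zero]
  · show el F i .v = _; rw [e0, e1, e2, h1, add_comm]
  · show el F i .z = _; rw [ez, D.two]
  · show el F i .e = _; rw [e0, e1, e2]; exact h2
  · show el F i .v = _; rw [ez, add_zero]
  · show el F i .w = _; rw [e0, e1, e2, add_comm]; exact h3
  · show el F i .e = _; rw [e0, e1, e2, add_comm]; exact h2
  · show el F i .z = _; rw [ez, D.two]

theorem el_w_mul (F : Frame D) (i : Fin 6) (a : K4) : el F i (K4.w * a) = D.h • el F i a := by
  have e : code (K4.w * a) = (code a).map (· + 1) := by cases a <;> decide +kernel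
  rw [el, e, D.lineEl_map, show (1 : ZMod 3).val = 1 from rfl, pow_one]
  rfl

/-- The coordinates of the module. -/
noncomputable def coordEquiv (F : Frame D) : V6 ≃+ V :=
  AddEquiv.ofBijective (AddMonoidHom.mk' (fun c => ∑ i, el F i (c i)) fun c d => by
      simp only [Pi.add_apply, el_add, Finset.sum_add_distrib])
    (F.bij.comp toCoord_bijective)

theorem coordEquiv_eq (F : Frame D) (c : V6) : coordEquiv F c = F.vec (toCoord c) := rfl

theorem coordEquiv_smul_w (F : Frame D) (c : V6) :
    coordEquiv F (K4.w • c) = D.h • coordEquiv F c := by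
  show ∑ i, el F i (K4.w * c i) = D.h • ∑ i, el F i (c i)
  rw [Finset.smul_sum]
  exact Finset.sum_congr rfl fun i _ => el_w_mul F i (c i)

open Classical in
/-- The field automorphism of an element. -/
noncomputable def tau (D : Core W V) (x : W) : K4 ≃+* K4 :=
  if x * D.h = D.h * x then RingEquiv.refl K4 else conjK

/-- The action in coordinates. -/
noncomputable def coordAct (F : Frame D) (x : W) (c : V6) : V6 :=
  (coordEquiv F).symm (x • coordEquiv F c)

theorem coordEquiv_coordAct (F : Frame D) (x : W) (c : V6) :
    coordEquiv F (coordAct F x c) = x • coordEquiv F c := AddEquiv.apply_symm_apply _ _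

theorem coordAct_mul (F : Frame D) (x y : W) (c : V6) :
    coordAct F (x * y) c = coordAct F x (coordAct F y c) :=
  (coordEquiv F).injective (by rw [coordEquiv_coordAct, coordEquiv_coordAct, coordEquiv_coordAct, mul_smul])

theorem coordAct_add (F : Frame D) (x : W) (c d : V6) :
    coordAct F x (c + d) = coordAct F x c + coordAct F x d := by
  simp only [coordAct, map_add, smul_add]

theorem coordAct_zero (F : Frame D) (x : W) : coordAct F x 0 = 0 := by
  simp only [coordAct, map_zero, smul_zero]

theorem coordAct_injective (F : Frame D) (x : W) : Function.Injective (coordAct F x) := fun _ _ h =>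
  (coordEquiv F).injective (MulAction.injective x ((coordEquiv F).symm.injective h))

theorem coordAct_smul (F : Frame D) (x : W) (a : K4) (c : V6) :
    coordAct F x (a • c) = tau D x a • coordAct F x c := by
  have hw : ∀ d, coordAct F x (K4.w • d) = tau D x K4.w • coordAct F x d := by
    intro d
    apply (coordEquiv F).injective
    rw [coordEquiv_coordAct, coordEquiv_smul_w, smul_smul]
    unfold tau
    split_ifs with hc
    · rw [RingEquiv.refl_apply, coordEquiv_smul_w, coordEquiv_coordAct, smul_smul, hc]
    · have hinv : x * D.h = D.h * D.h * x := by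
        rcases D.h_conj x with e | e
        · exact absurd (mul_inv_eq_iff_eq_mul.1 e) hc
        · rw [mul_inv_eq_iff_eq_mul.1 e, D.h_inv]
      rw [hinv, mul_smul, mul_smul, show conjK K4.w = K4.w * K4.w from rfl, mul_smul,
        coordEquiv_smul_w, coordEquiv_smul_w, coordEquiv_coordAct]
  rcases eq_wts a with rfl | rfl | rfl | rfl
  · rw [zero_smul, map_zero, zero_smul, coordAct_zero]
  · rw [one_smul, map_one, one_smul]
  · exact hw c
  · rw [mul_smul, hw, hw, map_mul, mul_smul]

theorem coordAct_self (F : Frame D) (x : W) (c : V6) :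
    Cfsg.hermForm 6 K4 2 (coordAct F x c) (coordAct F x c) = Cfsg.hermForm 6 K4 2 c c := by
  rw [herm_self, herm_self, ← F.q_eq, ← F.q_eq, ← coordEquiv_eq, ← coordEquiv_eq, coordEquiv_coordAct,
    D.q_smul]

theorem herm6_add (c d : V6) : Cfsg.hermForm 6 K4 2 (c + d) (c + d) =
    Cfsg.hermForm 6 K4 2 c c + Cfsg.hermForm 6 K4 2 d d +
      (Cfsg.hermForm 6 K4 2 c d + conjK (Cfsg.hermForm 6 K4 2 c d)) := by
  rw [herm_conj, Lib.Unitary.herm_add_left, Lib.Unitary.herm_add_right c c d cardK4,
    Lib.Unitary.herm_add_right d c d cardK4]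
  ring

theorem coordAct_herm (F : Frame D) (x : W) (c d : V6) :
    Cfsg.hermForm 6 K4 2 (coordAct F x c) (coordAct F x d) = tau D x (Cfsg.hermForm 6 K4 2 c d) := by
  set f := coordAct F x with hf
  have htr : ∀ c d, Cfsg.hermForm 6 K4 2 (f c) (f d) + conjK (Cfsg.hermForm 6 K4 2 (f c) (f d)) =
      Cfsg.hermForm 6 K4 2 c d + conjK (Cfsg.hermForm 6 K4 2 c d) := by
    intro c d
    have h := coordAct_self F x (c + d)
    rw [coordAct_add, herm6_add, herm6_add, coordAct_self F x c, coordAct_self F x d] at h
    exact add_left_cancel h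
  have h1 := htr c d
  have h2 := htr (K4.w • c) d
  rw [hf, coordAct_smul, Lib.Unitary.herm_smul_left, Lib.Unitary.herm_smul_left, ← hf] at h2
  unfold tau at h2 ⊢
  split_ifs at h2 ⊢ with hc
  · exact solve_id _ _ h1 h2
  · exact solve_conj _ _ h1 h2

end Cfsg.Agent.Lib.FischerLarge99
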