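import Cfsg.Agent.Lib.FischerLarge99.Stab
import Cfsg.Agent.Lib.LargeFischer13.StabR

/-!
Around the vector with all six coordinates one: no linear element of the group is the unitary
transvection there; a commuting family of involutions normalised by the even permutations is
trivial on the orthogonal of the line modulo the line; and a totally singular subgroup of order 64
invariant under the even permutations contains the line or is of one other explicit shape.

Owner: helper99.
-/

set_option autoImplicit false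
set_option linter.style.haveILetI false
set_option linter.unusedSectionVars false

namespace Cfsg.Agent.Lib.FischerLarge99

open Cfsg.Agent.Lib.G24 Cfsg.Agent.Lib.LargeFischer13
open Cfsg.Agent.Lib.LargeFischer13.Model

/-- The vector with all coordinates one. -/
def one6 : V6 := fun _ => 1

/-- The unit vectors. -/
abbrev un (i : Fin 6) : V6 := Pi.single i 1

theorem toCoord_one6 : toCoord one6 = ones := funext fun _ => rfl

theorem herm_one6 (c : V6) : Cfsg.hermForm 6 K4 2 c one6 = ∑ i, c i := by
  simp [Cfsg.hermForm, one6]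

theorem herm_un (c : V6) (i : Fin 6) : Cfsg.hermForm 6 K4 2 c (un i) = c i := by
  simp [Cfsg.hermForm, un, Pi.single_apply]

theorem herm_un_left (c : V6) (i : Fin 6) : Cfsg.hermForm 6 K4 2 (un i) c = c i * c i := by
  simp [Cfsg.hermForm, un, Pi.single_apply, sq]

theorem k4_self : ∀ a : K4, a + a = 0 := by decide +kernel

theorem vec_two (c : V6) : c + c = 0 := funext fun _ => k4_self _

theorem k4_trace : ∀ a : K4, a + conjK a = 0 → a = 0 ∨ a = 1 := by decide +kernel

theorem k4_real_or : ∀ a : K4, a = 0 ∨ a = 1 ∨ a = K4.w ∨ a + 1 = K4.w := by decide +kernel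

theorem sum_zero_eq : ∀ a b c : K4, a + b + c = 0 → a = b → b = c → a = 0 := by decide +kernel

/-- The coordinates permuted. -/
def permC (π : Equiv.Perm (Fin 6)) (c : V6) : V6 := fun i => c (π.symm i)

theorem permC_smul (π : Equiv.Perm (Fin 6)) (a : K4) (c : V6) : permC π (a • c) = a • permC π c := rfl

theorem permC_add (π : Equiv.Perm (Fin 6)) (c d : V6) : permC π (c + d) = permC π c + permC π d := rfl

theorem permC_one6 (π : Equiv.Perm (Fin 6)) : permC π one6 = one6 := rfl

theorem exists_mover : ∀ i j : Fin 6, i ≠ j → ∃ π : Equiv.Perm (Fin 6), Equiv.Perm.sign π = 1 ∧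
    π 0 = i ∧ π 1 = j := by
  decide +kernel

theorem exists_double : ∀ i j k : Fin 6, i ≠ j → j ≠ k → i ≠ k → ∃ l m : Fin 6, l ≠ m ∧ l ≠ i ∧ l ≠ j ∧
    l ≠ k ∧ m ≠ i ∧ m ≠ j ∧ m ≠ k := by
  decide +kernel

theorem exists_third : ∀ i j : Fin 6, i ≠ j → ∃ k, k ≠ i ∧ k ≠ j := by decide

theorem double_vals : ∀ p q l m : Fin 6, p ≠ q → l ≠ m → l ≠ p → l ≠ q → m ≠ p → m ≠ q →
    (Equiv.swap p q * Equiv.swap l m).symm p = q ∧ (Equiv.swap p q * Equiv.swap l m).symm q = p ∧
      (Equiv.swap p q * Equiv.swap l m).symm l = m ∧ (Equiv.swap p q * Equiv.swap l m).symm m = l ∧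
      ∀ a, a ≠ p → a ≠ q → a ≠ l → a ≠ m → (Equiv.swap p q * Equiv.swap l m).symm a = a := by
  decide +kernel

theorem tri_vals : ∀ i j k : Fin 6, i ≠ j → j ≠ k → i ≠ k →
    ((Equiv.swap i j * Equiv.swap j k).symm i = k ∧ (Equiv.swap i j * Equiv.swap j k).symm j = i ∧
      (Equiv.swap i j * Equiv.swap j k).symm k = j) ∧
      ∀ a, a ≠ i → a ≠ j → a ≠ k → (Equiv.swap i j * Equiv.swap j k).symm a = a := by
  decide +kernel

theorem decomp (c : V6) :
    c = ∑ i : Fin 5, c i.succ • (un 0 + un i.succ) + (∑ i, c i) • un 0 := by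
  funext a
  simp only [Pi.add_apply, Finset.sum_apply, Pi.smul_apply, smul_eq_mul, Fin.sum_univ_five, Fin.sum_univ_six, un]
  fin_cases a <;> simp [Pi.single_apply] <;>
    generalize c 0 = a0, c 1 = a1, c 2 = a2, c 3 = a3, c 4 = a4, c 5 = a5 <;>
    revert a0 a1 a2 a3 a4 a5 <;> decide +kernel

/-- A non-constant vector in a set closed under sums and even permutations yields a pair vector. -/
theorem exists_pair (S : Set V6) (hadd : ∀ a ∈ S, ∀ b ∈ S, a + b ∈ S)
    (hperm : ∀ π, Equiv.Perm.sign π = 1 → ∀ c ∈ S, permC π c ∈ S) {y : V6} (hy : y ∈ S)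
    (hne : ∃ i j, y i ≠ y j) :
    ∃ l : K4, l ≠ 0 ∧ ∀ i j, i ≠ j → l • (un i + un j) ∈ S := by
  obtain ⟨i, j, hij⟩ := hne
  have hij' : i ≠ j := fun e => hij (e ▸ rfl)
  obtain ⟨k, hki, hkj⟩ := exists_third i j hij'
  -- supported on three coordinates, with sum zero
  set τ := Equiv.swap i j * Equiv.swap j k with hτ
  have hτs : Equiv.Perm.sign τ = 1 := by
    rw [hτ, map_mul, Equiv.Perm.sign_swap hij', Equiv.Perm.sign_swap hkj.symm]; rfl
  set z := y + permC τ y with hz
  have hzS : z ∈ S := hadd _ hy _ (hperm τ hτs y hy)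
  obtain ⟨hτi, hτo⟩ := tri_vals i j k hij' hkj.symm hki.symm
  rw [← hτ] at hτi hτo
  have hoff : ∀ l, l ≠ i → l ≠ j → l ≠ k → z l = 0 := fun l hli hlj hlk => by
    simp [hz, permC, hτo l hli hlj hlk, k4_self]
  have hsum : z i + z j + z k = 0 := by
    simp only [hz, Pi.add_apply, permC, hτi.1, hτi.2.1, hτi.2.2]
    generalize y i = a, y j = b, y k = c
    revert a b c
    decide +kernel
  have hzne : z j ≠ 0 := by
    simp only [hz, Pi.add_apply, permC, hτi.2.1]
    intro e
    exact hij (by revert e; generalize y i = a, y j = b; revert a b; decide +kernel)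
  obtain ⟨p, q, r, hpq, hqr, hpr, hd, hcov⟩ : ∃ p q r, p ≠ q ∧ q ≠ r ∧ p ≠ r ∧ z p ≠ z q ∧
      ∀ l, l ≠ p → l ≠ q → l ≠ r → z l = 0 := by
    by_cases h1 : z i = z j
    · by_cases h2 : z j = z k
      · exact absurd (h1 ▸ sum_zero_eq _ _ _ hsum h1 h2) hzne
      · exact ⟨j, k, i, hkj.symm, hki, hij'.symm, h2, fun l a b c => hoff l c a b⟩
    · exact ⟨i, j, k, hij', hkj.symm, hki.symm, h1, hoff⟩
  obtain ⟨l, m, hlm, hlp, hlq, hlr, hmp, hmq, hmr⟩ := exists_double p q r hpq hqr hpr
  set σ := Equiv.swap p q * Equiv.swap l m with hσ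
  have hσs : Equiv.Perm.sign σ = 1 := by
    rw [hσ, map_mul, Equiv.Perm.sign_swap hpq, Equiv.Perm.sign_swap hlm]; rfl
  obtain ⟨hσp, hσq, hσl, hσm, hσo⟩ := double_vals p q l m hpq hlm hlp hlq hmp hmq
  rw [← hσ] at hσp hσq hσl hσm hσo
  have hw : z + permC σ z = (z p + z q) • (un p + un q) := by
    funext a
    simp only [Pi.add_apply, permC, Pi.smul_apply, smul_eq_mul, un, Pi.single_apply]
    rcases eq_or_ne a p with rfl | hap
    · simp [hσp, hpq]
    rcases eq_or_ne a q with rfl | haq
    · simp [hσq, hpq.symm, add_comm]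
    rcases eq_or_ne a l with rfl | hal
    · simp [hσl, hap, haq, hcov a hap haq hlr, hcov m hmp hmq hmr]
    rcases eq_or_ne a m with rfl | ham
    · simp [hσm, hap, haq, hcov a hap haq hmr, hcov l hlp hlq hlr]
    · simp [hσo a hap haq hal ham, hap, haq, k4_self]
  have hwS : z + permC σ z ∈ S := hadd _ hzS _ (hperm σ hσs z hzS)
  rw [hw] at hwS
  refine ⟨z p + z q, fun e => hd ?_, fun a b hab => ?_⟩
  · revert e; generalize z p = a, z q = b; revert a b; decide +kernel
  · obtain ⟨π₁, h1, e1, e1'⟩ := exists_mover p q hpq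
    obtain ⟨π₂, h2, e2, e2'⟩ := exists_mover a b hab
    have := hperm (π₂ * π₁⁻¹) (by rw [map_mul, map_inv, h1, h2]; rfl) _ hwS
    rw [permC_smul, permC_add] at this
    have hun : ∀ (π : Equiv.Perm (Fin 6)) c, permC π (un c) = un (π c) := fun π c => funext fun x => by
      simp [permC, un, Pi.single_apply, Equiv.symm_apply_eq]
    have ha' : (π₂ * π₁⁻¹) p = a := by rw [← e1, Equiv.Perm.mul_apply, Equiv.Perm.coe_inv,
      Equiv.symm_apply_apply, e2]
    have hb' : (π₂ * π₁⁻¹) q = b := by rw [← e1', Equiv.Perm.mul_apply, Equiv.Perm.coe_inv,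
      Equiv.symm_apply_apply, e2']
    rwa [hun, hun, ha', hb'] at this

theorem one6_eq : (un 0 + un 1) + (un 2 + un 3) + (un 4 + un 5) = one6 := by
  funext i; fin_cases i <;> simp [un, one6]

/-- A totally singular invariant subgroup of order 64 through the all-one vector. -/
theorem shape (S : AddSubgroup V6) (h1 : one6 ∈ S)
    (hperm : ∀ π, Equiv.Perm.sign π = 1 → ∀ c ∈ S, permC π c ∈ S)
    (hq : ∀ c ∈ S, Cfsg.hermForm 6 K4 2 c c = 0) (hcard : Nat.card S = 64) :
    K4.w • one6 ∈ S ∨ ((∀ i, i ≠ 0 → un 0 + un i ∈ S) ∧ un 0 + K4.w • one6 ∈ S) := by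
  obtain ⟨y, hy, hne⟩ : ∃ y ∈ S, ∃ i j, y i ≠ y j := by
    by_contra hc
    push Not at hc
    have h := Nat.card_le_card_of_injective (fun y : S => y.1 0) fun a b h => Subtype.ext (funext fun i =>
      (hc a a.2 i 0).trans (h.trans (hc b b.2 0 i)))
    rw [Nat.card_eq_fintype_card (α := K4), K4.card_eq] at h
    omega
  obtain ⟨l, hl, hpair⟩ := exists_pair S (fun a ha b hb => S.add_mem ha hb) hperm hy hne
  have hl1 : l • one6 ∈ S := by
    rw [← one6_eq, smul_add, smul_add]
    exact S.add_mem (S.add_mem (hpair 0 1 (by decide)) (hpair 2 3 (by decide))) (hpair 4 5 (by decide))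
  rcases k4_real_or l with e | e | e | e
  · exact absurd e hl
  swap
  · exact Or.inl (e ▸ hl1)
  swap
  · left
    rw [← e, add_smul, one_smul]
    exact S.add_mem hl1 h1
  subst e
  simp only [one_smul] at hpair
  have hreal : ∀ c ∈ S, ∀ i, c i + c 0 = 0 ∨ c i + c 0 = 1 := by
    intro c hc i
    rcases eq_or_ne i 0 with rfl | hi
    · exact Or.inl (k4_self _)
    · refine k4_trace _ ?_
      have h := hq (c + (un i + un 0)) (S.add_mem hc (hpair i 0 hi))
      rw [herm6_add, hq c hc, hq _ (hpair i 0 hi), zero_add, zero_add,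
        Lib.Unitary.herm_add_right c (un i) (un 0) cardK4, herm_un, herm_un] at h
      exact h
  have hdec : ∀ c ∈ S, ∃ e : K4, (e = 0 ∨ e = 1) ∧ e • un 0 + c 0 • one6 ∈ S := by
    intro c hc
    set d : V6 := c + c 0 • one6 with hd
    have hdi : ∀ i, d i = c i + c 0 := fun i => by simp [hd, one6]
    refine ⟨∑ i, d i, ?_, ?_⟩
    · refine Finset.sum_induction _ (fun e : K4 => e = 0 ∨ e = 1) ?_ (Or.inl rfl) fun i _ => ?_
      · rintro a b (rfl | rfl) (rfl | rfl) <;> decide +kernel
      · rw [hdi]; exact hreal c hc i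
    · have hR : ∑ i : Fin 5, d i.succ • (un 0 + un i.succ) ∈ S := by
        refine S.sum_mem fun i _ => ?_
        rw [hdi]
        rcases hreal c hc i.succ with e | e <;> rw [e]
        · rw [zero_smul]; exact S.zero_mem
        · rw [one_smul]; exact hpair 0 _ (Fin.succ_ne_zero i).symm
      refine (S.add_mem_cancel_left hR).1 ?_
      rw [← add_assoc, ← decomp d, hd, add_assoc, vec_two, add_zero]
      exact hc
  by_cases hex : ∃ c ∈ S, c 0 ≠ 0 ∧ c 0 ≠ 1
  · obtain ⟨c, hc, h0, h0'⟩ := hex
    obtain ⟨e, he, heS⟩ := hdec c hc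
    have hS : e • un 0 + K4.w • one6 ∈ S := by
      rcases k4_real_or (c 0) with e1 | e1 | e1 | e1
      · exact absurd e1 h0
      · exact absurd e1 h0'
      · exact e1 ▸ heS
      · rw [← e1, add_smul, one_smul, ← add_assoc]
        exact S.add_mem heS h1
    rcases he with rfl | rfl
    · left; simpa using hS
    · right; exact ⟨fun i hi => hpair 0 i hi.symm, by simpa using hS⟩
  · exfalso
    push Not at hex
    -- everything is real, so at most sixty-four vectors, one of them odd
    have hall : ∀ c ∈ S, ∀ i, c i = 0 ∨ c i = 1 := by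
      intro c hc i
      have h0 : c 0 = 0 ∨ c 0 = 1 := or_iff_not_imp_left.2 (hex c hc)
      rcases hreal c hc i with e | e <;> rcases h0 with e' | e' <;> rw [e'] at e <;>
        revert e <;> generalize c i = a <;> revert a <;> decide +kernel
    have hodd : un 0 ∉ S := fun h => by
      have := hq _ h
      rw [herm_un] at this
      simp [un] at this
    let g : S → {r : Fin 6 → Bool // r ≠ fun i => decide (i = 0)} := fun c =>
      ⟨fun i => decide (c.1 i = 1), fun e => hodd (by
        have hc : c.1 = un 0 := funext fun i => by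
          have := congrFun e i
          rcases hall c c.2 i with h | h <;> rcases eq_or_ne i 0 with rfl | hi <;>
            simp_all [un]
        exact hc ▸ c.2)⟩
    have hg : Function.Injective g := fun a b h => Subtype.ext (funext fun i => by
      have := congrFun (congrArg Subtype.val h) i
      rcases hall a a.2 i with ha | ha <;> rcases hall b b.2 i with hb | hb <;> simp_all [g])
    have h := Nat.card_le_card_of_injective g hg
    rw [hcard, Nat.card_eq_fintype_card, Fintype.card_subtype_compl] at h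
    simp at h

variable {W : Type*} [Group W] [Finite W] {V : Type*} [AddCommGroup V] [Finite V]
  [DistribMulAction W V] {D : Core W V} (F : NFrame D)

theorem coordAct_lin {x : W} (hx : x * D.h = D.h * x) (a : K4) (c : V6) :
    coordAct F.toFrame x (a • c) = a • coordAct F.toFrame x c := by
  rw [coordAct_smul]; unfold tau; rw [if_pos hx]; rfl

theorem coordAct_herm_lin {x : W} (hx : x * D.h = D.h * x) (c d : V6) :
    Cfsg.hermForm 6 K4 2 (coordAct F.toFrame x c) (coordAct F.toFrame x d) = Cfsg.hermForm 6 K4 2 c d := by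
  rw [coordAct_herm]; unfold tau; rw [if_pos hx]; rfl

theorem u6_moved : wt (toCoord (fun i => u6 i + (∑ j, u6 j))) = 6 ∧
    phase (toCoord (fun i => u6 i + (∑ j, u6 j))) ≠ 1 := by
  decide +kernel

/-- No linear element is the transvection at the all-one vector. -/
theorem not_transvection {x : W}
    (h : ∀ c, coordAct F.toFrame x c = c + (∑ i, c i) • one6) : False :=
  not_U_R F (x := x) (c := u6) (d := fun i => u6 i + ∑ j, u6 j) (Or.inr u6_U) (Or.inr u6_moved) (by
    rw [h]; funext i; simp [one6])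

/-- A linear element trivial on the second shape modulo the vector is trivial. -/
theorem eq_one_of_shape {x : W} (hx : x * D.h = D.h * x) (h1 : coordAct F.toFrame x one6 = one6)
    (hm : ∀ c, ((∃ i, i ≠ 0 ∧ c = un 0 + un i) ∨ c = un 0 + K4.w • one6) →
      coordAct F.toFrame x c = c ∨ coordAct F.toFrame x c = c + one6) : x = 1 := by
  set f := coordAct F.toFrame x with hf
  have hadd : ∀ c d, f (c + d) = f c + f d := coordAct_add F.toFrame x
  have hex : ∀ c, ((∃ i, i ≠ 0 ∧ c = un 0 + un i) ∨ c = un 0 + K4.w • one6) →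
      ∃ a : K4, (a = 0 ∨ a = 1) ∧ f c = c + a • one6 := fun c hc => by
    rcases hm c hc with e | e
    · exact ⟨0, Or.inl rfl, by simpa using e⟩
    · exact ⟨1, Or.inr rfl, by simpa using e⟩
  have hbasis : ∀ i, ∃ a : K4, (a = 0 ∨ a = 1) ∧ f (un i) = un i + a • one6 := by
    obtain ⟨a0, ha0, e0⟩ := hex _ (Or.inr rfl)
    rw [hadd, hf, coordAct_lin F hx, ← hf, h1, add_right_comm] at e0
    have h0 : f (un 0) = un 0 + a0 • one6 := add_right_cancel e0
    intro i
    rcases eq_or_ne i 0 with rfl | hi
    · exact ⟨a0, ha0, h0⟩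
    · obtain ⟨a, ha, e⟩ := hex _ (Or.inl ⟨i, hi, rfl⟩)
      rw [hadd, h0] at e
      refine ⟨a0 + a, ?_, add_left_cancel (a := un 0 + a0 • one6) ?_⟩
      · rcases ha0 with rfl | rfl <;> rcases ha with rfl | rfl <;> decide +kernel
      · rw [e, add_smul]
        have := vec_two (a0 • one6)
        calc un 0 + un i + a • one6 = un 0 + un i + (a0 • one6 + a0 • one6) + a • one6 := by rw [this, add_zero]
          _ = _ := by abel
  choose a ha hfa using hbasis
  have hsame : ∀ i, a i = a 0 := by
    intro i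
    rcases eq_or_ne i 0 with rfl | hi
    · rfl
    have h := coordAct_herm_lin F hx (un i) (un 0)
    rw [← hf, hfa, hfa] at h
    have h6 : Cfsg.hermForm 6 K4 2 one6 one6 = 0 := by decide +kernel
    rw [Lib.Unitary.herm_add_left, Lib.Unitary.herm_add_right _ _ _ cardK4,
      Lib.Unitary.herm_add_right _ _ _ cardK4] at h
    simp only [herm_un, Pi.smul_apply, smul_eq_mul, one6, mul_one] at h
    rw [Lib.Unitary.herm_smul_left, show Cfsg.hermForm 6 K4 2 one6 ((a 0) • one6) = 0 by
      rcases ha 0 with e | e <;> rw [e] <;> decide +kernel, herm_un_left] at h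
    simp [un, hi.symm, Pi.single_apply, one6] at h
    rcases ha i with e | e <;> rcases ha 0 with e' | e' <;> rw [e, e'] at h ⊢ <;>
      revert h <;> decide +kernel
  have hall : ∀ c, f c = c + (a 0 * ∑ i, c i) • one6 := by
    intro c
    have hsum : c = ∑ i, c i • un i := by
      conv_lhs => rw [pi_eq_sum_univ' c]
    conv_lhs => rw [hsum]
    rw [hf, show coordAct F.toFrame x (∑ i, c i • un i) = ∑ i, coordAct F.toFrame x (c i • un i) from
      map_sum (AddMonoidHom.mk' (coordAct F.toFrame x) (coordAct_add F.toFrame x)) _ _]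
    simp only [coordAct_lin F hx, ← hf, hfa, smul_add, Finset.sum_add_distrib, ← hsum, smul_smul, hsame,
      ← Finset.sum_smul]
    rw [← Finset.sum_mul, mul_comm]
  rcases ha 0 with e | e
  · refine D.faithful x fun v => ?_
    obtain ⟨c, rfl⟩ := (coordEquiv F.toFrame).surjective v
    rw [← coordEquiv_coordAct, ← hf, hall, e, zero_mul, zero_smul, add_zero]
  · exact (not_transvection F fun c => by rw [← hf, hall, e, one_mul]).elim

/-- Commuting linear involutions fixing the all-one vector and normalised by the even permutations act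
trivially on the orthogonal of the vector modulo its line. -/
theorem perp_trivial (E : Subgroup W) (hlin : ∀ e ∈ E, e * D.h = D.h * e)
    (h1 : ∀ e ∈ E, coordAct F.toFrame e one6 = one6) (hsq : ∀ e ∈ E, e * e = 1)
    (hc : ∀ a ∈ E, ∀ b ∈ E, a * b = b * a)
    (hperm : ∀ π, Equiv.Perm.sign π = 1 → ∀ e ∈ E, ∃ e' ∈ E, ∀ c,
      coordAct F.toFrame e (permC π c) = permC π (coordAct F.toFrame e' c)) :
    ∀ e ∈ E, ∀ c : V6, ∑ i, c i = 0 → ∃ a : K4, coordAct F.toFrame e c = c + a • one6 := by
  classical
  let N : W → V6 → V6 := fun e c => coordAct F.toFrame e c + c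
  have hsum : ∀ e ∈ E, ∀ c, ∑ i, coordAct F.toFrame e c i = ∑ i, c i := fun e he c => by
    have := coordAct_herm_lin F (hlin e he) c one6
    rwa [h1 e he, herm_one6, herm_one6] at this
  have hN : ∀ l : List W, (∀ e ∈ l, e ∈ E) → ∃ c : V6, ∑ i, c i = 0 ∧ (∀ a : K4, c ≠ a • one6) ∧
      ∀ e ∈ l, ∃ a : K4, N e c = a • one6 := by
    intro l
    induction l with
    | nil =>
      exact fun _ => ⟨un 0 + un 1, by decide +kernel, by decide +kernel, fun e he => absurd he List.not_mem_nil⟩
    | cons b l ih =>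
      intro hl
      obtain ⟨c, hc0, hcne, hcl⟩ := ih fun e he => hl e (List.mem_cons_of_mem _ he)
      have hb : b ∈ E := hl b List.mem_cons_self
      by_cases hcb : ∃ a : K4, N b c = a • one6
      · exact ⟨c, hc0, hcne, fun e he => by
          rcases List.mem_cons.1 he with rfl | he
          exacts [hcb, hcl e he]⟩
      · push Not at hcb
        refine ⟨N b c, ?_, hcb, fun e he => ?_⟩
        · simp only [N, Pi.add_apply, Finset.sum_add_distrib, hsum b hb, k4_self]
        · rcases List.mem_cons.1 he with rfl | he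
          · refine ⟨0, ?_⟩
            show coordAct F.toFrame e (coordAct F.toFrame e c + c) + (coordAct F.toFrame e c + c) = _
            rw [coordAct_add, ← coordAct_mul, hsq e hb, zero_smul]
            have e1 : coordAct F.toFrame (1 : W) c = c :=
              (coordEquiv F.toFrame).injective (by rw [coordEquiv_coordAct, one_smul])
            rw [e1, add_comm c, vec_two]
          · obtain ⟨a, ha⟩ := hcl e he
            have heE : e ∈ E := hl e (List.mem_cons_of_mem _ he)
            refine ⟨0, ?_⟩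
            show coordAct F.toFrame e (coordAct F.toFrame b c + c) + (coordAct F.toFrame b c + c) = _
            rw [coordAct_add, ← coordAct_mul, hc e heE b hb, coordAct_mul]
            have hec : coordAct F.toFrame e c = c + a • one6 := by
              have ha' : coordAct F.toFrame e c + c = a • one6 := ha
              rw [← ha', add_left_comm, vec_two, add_zero]
            rw [hec, coordAct_add, coordAct_lin F (hlin b hb), h1 b hb, zero_smul]
            calc _ = (coordAct F.toFrame b c + coordAct F.toFrame b c) + ((c + c) + (a • one6 + a • one6)) := by abel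
              _ = 0 := by simp only [vec_two, add_zero]
  haveI : Fintype E := Fintype.ofFinite E
  obtain ⟨c0, hc0, hc0ne, hc0l⟩ := hN ((Finset.univ : Finset E).toList.map Subtype.val) (by simp)
  -- the vectors moved only along the line
  let T : Set V6 := {c | ∑ i, c i = 0 ∧ ∀ e ∈ E, ∃ a : K4, coordAct F.toFrame e c = c + a • one6}
  have hTadd : ∀ a ∈ T, ∀ b ∈ T, a + b ∈ T := by
    rintro a ⟨a0, ha⟩ b ⟨b0, hb⟩
    refine ⟨by simp [Finset.sum_add_distrib, a0, b0], fun e he => ?_⟩
    obtain ⟨u, hu⟩ := ha e he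
    obtain ⟨v, hv⟩ := hb e he
    exact ⟨u + v, by rw [coordAct_add, hu, hv, add_smul]; abel⟩
  have hTsmul : ∀ (k : K4), ∀ a ∈ T, k • a ∈ T := by
    rintro k a ⟨a0, ha⟩
    refine ⟨by simp [← Finset.mul_sum, a0], fun e he => ?_⟩
    obtain ⟨u, hu⟩ := ha e he
    exact ⟨k * u, by rw [coordAct_lin F (hlin e he), hu, smul_add, smul_smul]⟩
  have hTperm : ∀ π, Equiv.Perm.sign π = 1 → ∀ c ∈ T, permC π c ∈ T := by
    rintro π hπ c ⟨c0', hc'⟩
    refine ⟨(Equiv.sum_comp π.symm c).trans c0', fun e he => ?_⟩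
    obtain ⟨e', he', h⟩ := hperm π hπ e he
    obtain ⟨a, ha⟩ := hc' e' he'
    exact ⟨a, by rw [h, ha, permC_add, permC_smul, permC_one6]⟩
  have hc0T : c0 ∈ T := ⟨hc0, fun e he => by
    obtain ⟨a, ha⟩ := hc0l e (by simp [he])
    have ha' : coordAct F.toFrame e c0 + c0 = a • one6 := ha
    exact ⟨a, by rw [← ha', add_left_comm, vec_two, add_zero]⟩⟩
  have hne : ∃ i j, c0 i ≠ c0 j := by
    by_contra h
    push Not at h
    exact hc0ne (c0 0) (funext fun i => by simp [one6, h i 0])
  obtain ⟨l, hl, hpair⟩ := exists_pair T hTadd hTperm hc0T hne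
  intro e he c hc'
  have h0 : (0 : V6) ∈ T := ⟨by simp, fun x hx => ⟨0, by
    rw [zero_smul, add_zero]
    exact (coordEquiv F.toFrame).injective (by rw [coordEquiv_coordAct, map_zero, smul_zero])⟩⟩
  have hcT : c ∈ T := by
    have hdec : c = ∑ i : Fin 5, c i.succ • (un 0 + un i.succ) := by
      conv_lhs => rw [decomp c, hc', zero_smul, add_zero]
    rw [hdec]
    refine Finset.sum_induction _ (· ∈ T) (fun a b ha hb => hTadd a ha b hb) h0 fun i _ => ?_
    have := hTsmul (c i.succ * l⁻¹) _ (hpair 0 i.succ (Fin.succ_ne_zero i).symm)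
    rwa [smul_smul, inv_mul_cancel_right₀ hl] at this
  exact hcT.2 e he

end Cfsg.Agent.Lib.FischerLarge99
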