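import Cfsg.Agent.Lib.FischerLarge99.Singular

/-!
The elementary group of order eight attached to a pair, its centraliser and the part of its
normaliser centralising `z`.

Owner: helper99.
-/

set_option autoImplicit false
set_option linter.style.haveILetI false
set_option linter.unusedSectionVars false

namespace Cfsg.Agent.Lib.FischerLarge99

open Cfsg.Agent.Lib.G24 Cfsg.Agent.Lib.LargeFischer13 Cfsg.Agent.Lib.LargeExtraspecial.Basic
open Cfsg.Agent.Lib.LargeFischer13.Model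

universe u

variable {G : Type u} [Group G] [Finite G] {z : G} {Q : Subgroup (Cz z)} [Q.Normal]

theorem z_center {c : Cz z} : Commute (c : G) z := Subgroup.mem_centralizer_singleton_iff.1 c.2

namespace Pr

variable {K : Ctx z Q} (p : Pr K)

theorem ψ_inj {a b : K4} (h : p.ψ (a • one6) = p.ψ (b • one6)) : a = b := by
  have := congrFun (p.ψ.injective h) 0
  simpa [one6] using this

theorem mem_Vs_iff (y : Q) : ((y : Cz z) : G) ∈ p.Vs ↔ ∃ a : K4, K.B.π y = p.ψ (a • one6) := by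
  rw [p.mem_Vs]
  refine ⟨fun ⟨y', hy', h⟩ => ?_, fun h => ⟨y, rfl, h⟩⟩
  rwa [show y' = y from Subtype.ext (Subtype.ext hy')] at h

theorem Vs_le : p.Vs ≤ p.D0 := inf_le_left

theorem Vs_sq {x : G} (hx : x ∈ p.Vs) : x * x = 1 := p.D0_sq (p.Vs_le hx)

theorem z_Vs : z ∈ p.Vs :=
  p.mem_Vs.2 ⟨K.zq, K.zq_eq, 0, by rw [K.π_zq, zero_smul, map_zero]⟩

theorem s_Vs : p.sG ∈ p.Vs := p.mem_Vs.2 ⟨p.s, rfl, 1, by rw [one_smul, ψ_one6]⟩

/-- The map from `Q` to the module. -/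
noncomputable def πH (K : Ctx z Q) : Q →* Multiplicative K.B.V :=
  MonoidHom.mk' (fun y => Multiplicative.ofAdd (K.B.π y)) fun a b => congrArg Multiplicative.ofAdd (K.B.π_mul a b)

theorem card_Vs : Nat.card p.Vs = 8 := by
  let f : K4 →+ K.B.V := AddMonoidHom.mk' (fun a => p.ψ (a • one6)) fun a b => by rw [add_smul, map_add]
  have hf : Function.Injective f := fun a b h => p.ψ_inj h
  set L := AddSubgroup.toSubgroup f.range with hL
  have hL4 : Nat.card L = 4 := by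
    rw [show Nat.card L = Nat.card f.range from Nat.card_congr (Equiv.refl _),
      ← Nat.card_congr (AddMonoidHom.ofInjective hf).toEquiv, Nat.card_eq_fintype_card, K4.card_eq]
  have hsurj : Function.Surjective (πH K) := fun v => by
    obtain ⟨y, hy⟩ := K.B.π_surj v.toAdd
    exact ⟨y, congrArg Multiplicative.ofAdd hy⟩
  have h1 := L.card_mul_index
  rw [hL4, Nat.card_congr Multiplicative.toAdd, K.B.D.cardV] at h1
  have h2 := (L.comap (πH K)).card_mul_index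
  rw [Subgroup.index_comap_of_surjective _ hsurj, K.hQ, show L.index = 1024 by omega] at h2
  have e : p.Vs = (L.comap (πH K)).map ((Cz z).subtype.comp Q.subtype) := by
    ext x
    rw [p.mem_Vs]
    constructor
    · rintro ⟨y, rfl, a, ha⟩
      exact ⟨y, ⟨a, ha.symm⟩, rfl⟩
    · rintro ⟨y, ⟨a, ha⟩, rfl⟩
      exact ⟨y, rfl, a, ha.symm⟩
  rw [e, ← Nat.card_congr (Subgroup.equivMapOfInjective _ _
    (show Function.Injective ((Cz z).subtype.comp Q.subtype) from (Cz z).subtype_injective.comp Q.subtype_injective)).toEquiv]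
  omega

theorem mem_normalizer {l : G} (h : ∀ x ∈ p.Vs, l * x * l⁻¹ ∈ p.Vs) :
    l ∈ Subgroup.normalizer (p.Vs : Set G) := Subgroup.mem_normalizer_fintype h

/-- An element of the pair's centraliser interchanging the two involutions. -/
theorem exists_swap : ∃ g0 : G, g0 * z * g0⁻¹ = p.sG ∧ g0 * p.sG * g0⁻¹ = z ∧
    g0 ∈ Subgroup.normalizer (p.Vs : Set G) ∧
    cj g0 (Ctx.P (Q := Q)) = cj p.g (Ctx.P (Q := Q)) := by
  obtain ⟨a, ha, hae⟩ := mem_cj.1 p.z_mem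
  have hne : p.g⁻¹ * z * p.g ≠ z := fun h => p.hs (by
    have e : p.g * z * p.g⁻¹ = z := by
      calc p.g * z * p.g⁻¹ = p.g * (p.g⁻¹ * z * p.g) * p.g⁻¹ := by rw [h]
        _ = z := by group
    exact p.hg.symm.trans e)
  have hg' : p.g⁻¹ * z * (p.g⁻¹)⁻¹ = (((⟨a, ha⟩ : Q) : Cz z) : G) := by
    rw [inv_inv]; exact hae.symm
  let p' : Pr K := ⟨⟨a, ha⟩, p.g⁻¹, hg', fun h => hne (by
    calc p.g⁻¹ * z * p.g = (((⟨a, ha⟩ : Q) : Cz z) : G) := by rw [← hg', inv_inv]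
      _ = z := h)⟩
  obtain ⟨c, hc, hcR, -⟩ := conj_isR K.B K.hz K.hzQ K.hQ K.F p.s p.g p.hg p.hs
  obtain ⟨c', hc', hcR', -⟩ := conj_isR K.B K.hz K.hzQ K.hQ K.F p'.s p'.g p'.hg p'.hs
  obtain ⟨w, hw⟩ := K.F.transR c c' hcR hcR'
  have hw' : w • K.B.π p.s = K.B.π p'.s := by rw [← hc, ← hc']; exact hw
  obtain ⟨d, hd⟩ := K.B.conj_of_smul (Subtype.ext (Subtype.ext (p'.D0_sq p'.s_D0))) p'.s_sing.1 hw'
  have hd' : (d : G) * p.sG * (d : G)⁻¹ = p.g⁻¹ * z * p.g := by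
    rw [show (d : G) * p.sG * (d : G)⁻¹ = p'.sG from congrArg Subtype.val hd, sG]
    exact hg'.symm.trans (by rw [inv_inv])
  set g0 := p.g * (d : G) with hg0
  have h1 : g0 * z * g0⁻¹ = p.sG := by
    calc g0 * z * g0⁻¹ = p.g * ((d : G) * z * (d : G)⁻¹) * p.g⁻¹ := by rw [hg0]; group
      _ = _ := by rw [(z_center (c := d)).eq, mul_inv_cancel_right, p.hg]
  have h2 : g0 * p.sG * g0⁻¹ = z := by
    calc g0 * p.sG * g0⁻¹ = p.g * ((d : G) * p.sG * (d : G)⁻¹) * p.g⁻¹ := by rw [hg0]; group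
      _ = z := by rw [hd']; group
  have hnP : ∀ (c : G) (x : G), Commute c z → x ∈ Ctx.P (Q := Q) → c * x * c⁻¹ ∈ Ctx.P (Q := Q) := by
    rintro c _ hc ⟨x, hx, rfl⟩
    exact ⟨⟨c, mem_centralizer_single.2 hc⟩ * x * ⟨c, mem_centralizer_single.2 hc⟩⁻¹,
      Subgroup.Normal.conj_mem ‹Q.Normal› x hx _, rfl⟩
  refine ⟨g0, h1, h2, p.mem_normalizer fun x hx => ?_, le_antisymm ?_ ?_⟩
  · obtain ⟨⟨hxP, hxg⟩, hxc⟩ := hx
    refine ⟨⟨?_, ?_⟩, fun c ⟨hodd, hcz, hcs⟩ => ?_⟩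
    · have hc : Commute (g0 * p.g) z := mul_inv_eq_iff_eq_mul.1 (by
        calc g0 * p.g * z * (g0 * p.g)⁻¹ = g0 * (p.g * z * p.g⁻¹) * g0⁻¹ := by group
          _ = z := by rw [p.hg]; exact h2)
      have h := hnP _ _ hc (mem_cj.1 hxg)
      rwa [show g0 * p.g * (p.g⁻¹ * x * p.g) * (g0 * p.g)⁻¹ = g0 * x * g0⁻¹ by group] at h
    · refine mem_cj.2 ?_
      have h := hnP (d : G) x z_center hxP
      rwa [show p.g⁻¹ * (g0 * x * g0⁻¹) * p.g = (d : G) * x * (d : G)⁻¹ by rw [hg0]; group]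
    · have e : ∀ y, Commute c y → Commute (g0⁻¹ * c * g0) (g0⁻¹ * y * g0) := fun y hy => by
        simpa [mul_assoc] using hy.map (MulAut.conj g0⁻¹)
      have ez : g0⁻¹ * z * g0 = p.sG := by
        conv_lhs => rw [← h2]
        group
      have es : g0⁻¹ * p.sG * g0 = z := by
        conv_lhs => rw [← h1]
        group
      have hcomm : Commute (g0⁻¹ * c * g0) x := hxc _ ⟨by
          rw [show g0⁻¹ * c * g0 = MulAut.conj g0⁻¹ c by simp [mul_assoc], MulEquiv.orderOf_eq]; exact hodd,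
        es ▸ e _ hcs, ez ▸ e _ hcz⟩
      have h := hcomm.map (MulAut.conj g0)
      simp only [MulAut.conj_apply] at h
      rwa [show g0 * (g0⁻¹ * c * g0) * g0⁻¹ = c by group] at h
  · rintro _ ⟨x, hx, rfl⟩
    refine mem_cj.2 ?_
    have h := hnP (d : G) x z_center hx
    simp only [MulEquiv.coe_toMonoidHom, MulAut.conj_apply]
    rwa [show p.g⁻¹ * (g0 * x * g0⁻¹) * p.g = (d : G) * x * (d : G)⁻¹ by rw [hg0]; group]
  · intro x hx
    refine mem_cj.2 ?_
    have h := hnP (d : G)⁻¹ _ z_center.inv_left (mem_cj.1 hx)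
    rwa [show g0⁻¹ * x * g0 = (d : G)⁻¹ * (p.g⁻¹ * x * p.g) * (d : G)⁻¹⁻¹ by rw [hg0]; group]

theorem moveC_cR : moveC (Equiv.swap 2 3) tauC cR = cR := by decide +kernel

/-- Some element fixing the vector inverts `h`. -/
theorem exists_outer_fix : ∃ u : (Cz z) ⧸ Q, u ∉ K.B.D.Mb ∧ u • K.B.π p.s = K.B.π p.s := by
  obtain ⟨n, hn, hnA⟩ := K.F.exists_outer
  have hni := K.F.inverts p.big hn
  obtain ⟨π, σ, hm⟩ := K.F.exists_mono_of_norm hnA
  obtain ⟨q, hq, hqm⟩ := K.F.exists_pure (Equiv.swap 2 3 * π⁻¹) (by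
    rw [map_mul, map_inv, K.F.semilinear_odd p.big hni hm, Equiv.Perm.sign_swap (by decide)]; decide)
  have e1 : K.F.IsMono (q * n) (Equiv.swap 2 3) σ := by
    have e := K.F.mono_mul (K.B.D.central q (K.B.D.P_le hq)) hqm hm
    simpa [mul_assoc] using e
  obtain ⟨a, ha, hak⟩ := K.F.diag' (fun j => tauC (Equiv.swap 2 3 j) - σ (Equiv.swap 2 3 j)) (by
    rw [Equiv.sum_comp (Equiv.swap 2 3) (fun j => tauC j - σ j), Finset.sum_sub_distrib,
      K.F.sum_inv hni hm]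
    decide +kernel)
  have hac := K.B.D.central a (K.B.D.A_le_Mb ha)
  have e2 : K.F.IsMono (a * (q * n)) (Equiv.swap 2 3) tauC := by
    have e := K.F.mono_mul hac (π := 1) hak e1
    rw [one_mul] at e
    convert e using 1
    funext i
    simp
  have hv : a * (q * n) ∉ K.B.D.Mb := fun h => hn (by
    have haq : a * q ∈ K.B.D.Mb := mul_mem (K.B.D.A_le_Mb ha) (K.B.D.P_le hq)
    rw [← mul_assoc] at h
    exact (K.B.D.Mb.mul_mem_cancel_left haq).1 h)
  have hfix : (a * (q * n)) • K.F.vec cR = K.F.vec cR := by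
    rw [K.F.smul_vec_inv (K.F.inverts p.big hv) e2, moveC_cR]
  obtain ⟨w, hw0⟩ := K.F.transR cR ones Model.isR_cR Model.isR_ones
  have hw : w • K.F.vec cR = coordEquiv K.F.toFrame one6 := by rw [coordEquiv_eq, toCoord_one6]; exact hw0
  refine ⟨p.w⁻¹ * (w * (a * (q * n)) * w⁻¹) * p.w, fun h => hv ?_, ?_⟩
  · have h1 := K.B.D.conj_mem_Mb (w⁻¹ * p.w) h
    rwa [show w⁻¹ * p.w * (p.w⁻¹ * (w * (a * (q * n)) * w⁻¹) * p.w) * (w⁻¹ * p.w)⁻¹ = a * (q * n) by group] at h1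
  · apply p.conj_fix
    apply (coordEquiv K.F.toFrame).injective
    rw [coordEquiv_coordAct, ← hw, mul_smul, mul_smul, inv_smul_smul, hfix]

/-- The pointwise stabiliser of the line. -/
noncomputable def X0 : Subgroup ((Cz z) ⧸ Q) := MulAction.stabilizer _ (K.B.π p.s) ⊓ K.B.D.Mb

theorem card_stab : Nat.card (MulAction.stabilizer ((Cz z) ⧸ Q) (K.B.π p.s)) = 11520 := by
  obtain ⟨c, hc⟩ := K.F.exists_coord (K.B.π p.s)
  have hR := K.F.isR_of_big (hc.symm ▸ p.big)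
  rw [← hc]
  exact K.F.card_stab_R hR

theorem card_X0 : Nat.card p.X0 = 5760 := by
  obtain ⟨u, hu, hus⟩ := p.exists_outer_fix
  set S := MulAction.stabilizer ((Cz z) ⧸ Q) (K.B.π p.s)
  have h1 := Subgroup.relIndex_mul_relIndex (⊥ : Subgroup _) p.X0 S bot_le inf_le_left
  rw [Subgroup.relIndex_bot_left, Subgroup.relIndex_bot_left, p.card_stab] at h1
  have h2 : p.X0.relIndex S = 2 := by
    rw [X0, inf_comm, Subgroup.inf_relIndex_right]
    have hd := @Subgroup.relIndex_dvd_index_of_normal _ _ K.B.D.Mb S K.B.D.Mb_normal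
    rw [K.B.D.index] at hd
    rcases (Nat.dvd_prime Nat.prime_two).1 hd with e | e
    · exact absurd (Subgroup.relIndex_eq_one.1 e hus) hu
    · exact e
  rw [h2] at h1
  omega

theorem tau_id (p : Pr K) {u : (Cz z) ⧸ Q} (h1 : coordAct K.F.toFrame u one6 = one6)
    (hw : coordAct K.F.toFrame u (K4.w • one6) = K4.w • one6) : u ∈ K.B.D.Mb := by
  refine K.F.mem_Mb_of_comm p.big ?_
  by_contra hc
  rw [coordAct_smul, h1] at hw
  unfold tau at hw
  rw [if_neg hc] at hw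
  have := congrFun hw 0
  simp [one6] at this
  revert this
  decide +kernel

theorem fix_iff {u : (Cz z) ⧸ Q} : u ∈ p.X0 ↔
    u • K.B.π p.s = K.B.π p.s ∧ u • p.ψ (K4.w • one6) = p.ψ (K4.w • one6) := by
  have hu : u = p.w⁻¹ * (p.w * u * p.w⁻¹) * p.w := by group
  constructor
  · rintro ⟨h1, h2⟩
    refine ⟨h1, ?_⟩
    have hM : p.w * u * p.w⁻¹ ∈ K.B.D.Mb := K.B.D.conj_mem_Mb _ h2
    have hfix : coordAct K.F.toFrame (p.w * u * p.w⁻¹) one6 = one6 :=
      p.ψ.injective (by rw [ψ_coordAct, ← hu, ψ_one6]; exact h1)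
    rw [hu, ← ψ_coordAct, coordAct_lin K.F (K.B.D.central _ hM), hfix]
  · rintro ⟨h1, h2⟩
    refine ⟨h1, ?_⟩
    have hM : p.w * u * p.w⁻¹ ∈ K.B.D.Mb := p.tau_id
      (p.ψ.injective (by rw [ψ_coordAct, ← hu, ψ_one6]; exact h1))
      (p.ψ.injective (by rw [ψ_coordAct, ← hu]; exact h2))
    have := K.B.D.conj_mem_Mb p.w⁻¹ hM
    rwa [inv_inv, ← hu] at this

theorem C_le : Subgroup.centralizer (p.Vs : Set G) ≤ Cz z := fun c hc =>
  mem_centralizer_single.2 ((Subgroup.mem_centralizer_iff.1 hc z p.z_Vs).symm)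

theorem mk_C {c : Cz z} (hc : (c : G) ∈ Subgroup.centralizer (p.Vs : Set G)) :
    (QuotientGroup.mk c : (Cz z) ⧸ Q) ∈ p.X0 := by
  have h : ∀ y : Q, ((y : Cz z) : G) ∈ p.Vs → (QuotientGroup.mk c : (Cz z) ⧸ Q) • K.B.π y = K.B.π y :=
    fun y hy => K.B.π_conj c y y (Subtype.ext (by
      show ((y : Cz z) : G) = (c : G) * ((y : Cz z) : G) * (c : G)⁻¹
      rw [← Subgroup.mem_centralizer_iff.1 hc _ hy, mul_inv_cancel_right]))
  obtain ⟨y, hy⟩ := K.B.π_surj (p.ψ (K4.w • one6))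
  exact p.fix_iff.2 ⟨h p.s p.s_Vs, hy ▸ h y ((p.mem_Vs_iff y).2 ⟨_, hy⟩)⟩

theorem exists_sep (K : Ctx z Q) {v w : G} (hv : v ∈ Ctx.P (Q := Q)) (hw : w ∈ Ctx.P (Q := Q)) (hv1 : v ≠ 1) (hvz : v ≠ z)
    (hw1 : w ≠ 1) (hwz : w ≠ z) (hvw1 : v * w ≠ 1) (hvwz : v * w ≠ z) :
    ∃ q ∈ Ctx.P (Q := Q), Commute q v ∧ q * w * q⁻¹ = w * z := by
  have h1 : ∀ x ∈ Ctx.P (Q := Q), x ≠ 1 → x ≠ z → ∃ q ∈ Ctx.P (Q := Q), chi q x = 1 := by
    intro x hx hx1 hxz
    obtain ⟨q, hq, hqx⟩ := K.es.exists_conj_ne hx hx1 hxz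
    refine ⟨q, hq, ?_⟩
    unfold chi
    rw [hqx, if_neg (by simpa using K.es.ne)]
  have hne : ∀ a : ZMod 2, a ≠ 0 → a = 1 := by decide
  have hsuff : ∀ q ∈ Ctx.P (Q := Q), chi q v = 0 → chi q w = 1 →
      ∃ q ∈ Ctx.P (Q := Q), Commute q v ∧ q * w * q⁻¹ = w * z := by
    intro q hq h0 h1'
    refine ⟨q, hq, chi_eq_zero.1 h0, (K.es.conj q hq w hw).resolve_left fun e => ?_⟩
    rw [chi, if_pos e] at h1'
    exact zero_ne_one h1'
  obtain ⟨a, ha, hav⟩ := h1 v hv hv1 hvz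
  obtain ⟨b, hb, hbw⟩ := h1 w hw hw1 hwz
  by_cases hbv : chi b v = 0
  · exact hsuff b hb hbv hbw
  by_cases haw : chi a w = 0
  · exact hsuff (b * a) (mul_mem hb ha) (by rw [K.es.chi_mul_left hb ha hv, hne _ hbv, hav]; decide)
      (by rw [K.es.chi_mul_left hb ha hw, hbw, haw, add_zero])
  obtain ⟨c, hc, hcvw⟩ := h1 _ (mul_mem hv hw) hvw1 hvwz
  rw [K.es.chi_mul_right hc hv hw] at hcvw
  by_cases hcv : chi c v = 0
  · rw [hcv, zero_add] at hcvw
    exact hsuff c hc hcv hcvw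
  · have hcw : chi c w = 0 := by
      rw [hne _ hcv] at hcvw
      simpa using hcvw
    exact hsuff (c * a) (mul_mem hc ha) (by rw [K.es.chi_mul_left hc ha hv, hne _ hcv, hav]; decide)
      (by rw [K.es.chi_mul_left hc ha hw, hcw, hne _ haw, zero_add])

theorem exists_C {u : (Cz z) ⧸ Q} (hu : u ∈ p.X0) :
    ∃ c : Cz z, (c : G) ∈ Subgroup.centralizer (p.Vs : Set G) ∧ QuotientGroup.mk c = u := by
  obtain ⟨hu1, hu2⟩ := p.fix_iff.1 hu
  obtain ⟨d, hd, hds⟩ := exists_lift K.B K.hz K.hzQ p.s p.g p.hg p.hs hu1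
  obtain ⟨t, ht⟩ := K.B.π_surj (p.ψ (K4.w • one6))
  have htV : ((t : Cz z) : G) ∈ p.Vs := (p.mem_Vs_iff t).2 ⟨_, ht⟩
  have htne : ∀ a : K4, a ≠ K4.w → K.B.π t ≠ p.ψ (a • one6) := fun a ha h =>
    ha (p.ψ_inj (h.symm.trans ht))
  -- adjust the lift on the third generator
  obtain ⟨c, hc, hcs, hct⟩ : ∃ c : Cz z, (QuotientGroup.mk c : (Cz z) ⧸ Q) = u ∧ Commute (c : G) p.sG ∧
      Commute (c : G) ((t : Cz z) : G) := by
    have h := K.B.π_conj d t ⟨d * t * d⁻¹, Subgroup.Normal.conj_mem ‹Q.Normal› t t.2 d⟩ rfl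
    rw [hd, ht, hu2, ← ht] at h
    rcases K.B.fibre h with e | e
    · exact ⟨d, hd, hds, mul_inv_eq_iff_eq_mul.1 (congrArg (fun q : Q => ((q : Cz z) : G)) e)⟩
    · have e' : (d : G) * ((t : Cz z) : G) * (d : G)⁻¹ = ((t : Cz z) : G) * z := e
      obtain ⟨q, hq, hqs, hqt⟩ := exists_sep K p.sP ⟨_, t.2, rfl⟩ p.s_ne_one p.hs
        (fun h1 => htne 0 (by decide) (by
          rw [zero_smul, map_zero, (K.B.π_zero t).2 (Or.inl (Subtype.ext (Subtype.ext h1)))]))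
        (fun h1 => htne 0 (by decide) (by rw [zero_smul, map_zero, (K.B.π_zero t).2 (Or.inr h1)]))
        (fun h1 => htne 1 (by decide) (by
          rw [one_smul, ψ_one6]
          have e1 : K.B.π (p.s * t) = 0 := (K.B.π_zero _).2 (Or.inl (Subtype.ext (Subtype.ext h1)))
          rw [K.B.π_mul] at e1
          exact add_left_cancel (e1.trans (K.B.D.two _).symm)))
        (fun h1 => htne 1 (by decide) (by
          rw [one_smul, ψ_one6]
          have e1 : K.B.π (p.s * t) = 0 := (K.B.π_zero _).2 (Or.inr h1)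
          rw [K.B.π_mul] at e1
          exact add_left_cancel (e1.trans (K.B.D.two _).symm)))
      obtain ⟨q', hq', rfl⟩ := hq
      refine ⟨q' * d, ?_, Commute.mul_left hqs hds, mul_inv_eq_iff_eq_mul.1 ?_⟩
      · rw [QuotientGroup.mk_mul, (QuotientGroup.eq_one_iff q').2 hq', one_mul, hd]
      · have hqt' : (q' : G) * ((t : Cz z) : G) * (q' : G)⁻¹ = ((t : Cz z) : G) * z := hqt
        calc ((q' * d : Cz z) : G) * ((t : Cz z) : G) * ((q' * d : Cz z) : G)⁻¹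
            = (q' : G) * ((d : G) * ((t : Cz z) : G) * (d : G)⁻¹) * (q' : G)⁻¹ := by
              rw [Subgroup.coe_mul]; group
          _ = ((q' : G) * ((t : Cz z) : G) * (q' : G)⁻¹) * ((q' : G) * z * (q' : G)⁻¹) := by rw [e']; group
          _ = ((t : Cz z) : G) := by
              rw [hqt', (z_center (c := q')).eq, mul_inv_cancel_right, mul_assoc, K.es.sq, mul_one]
  refine ⟨c, Subgroup.mem_centralizer_iff.2 fun x hx => ?_, hc⟩
  obtain ⟨y, rfl, a, hy⟩ := p.mem_Vs.1 hx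
  have hz' : Commute (c : G) z := z_center
  have hgen : ∀ y' : Q, Commute (c : G) ((y' : Cz z) : G) → K.B.π y = K.B.π y' →
      ((y : Cz z) : G) * (c : G) = (c : G) * ((y : Cz z) : G) := by
    intro y' hy' he
    rcases K.B.fibre he.symm with e | e
    · rw [e]; exact hy'.symm.eq
    · rw [e]; exact (hy'.mul_right hz').symm.eq
  rcases eq_wts a with rfl | rfl | rfl | rfl
  · exact hgen 1 (by show Commute (c : G) 1; exact Commute.one_right _)
      (by rw [hy, zero_smul, map_zero, K.B.π_one])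
  · exact hgen p.s hcs (by rw [hy, one_smul, ψ_one6])
  · exact hgen t hct (by rw [hy, ht])
  · refine hgen (p.s * t) (by show Commute (c : G) (p.sG * ((t : Cz z) : G)); exact hcs.mul_right hct) ?_
    rw [hy, K.B.π_mul, ht, show K4.w * K4.w = 1 + K4.w from rfl, add_smul, one_smul, map_add, ψ_one6]

theorem card_CP : Nat.card (Ctx.P (Q := Q) ⊓ Subgroup.centralizer (p.Vs : Set G) : Subgroup G) = 2 ^ 11 := by
  have h := Cfsg.Agent.Lib.FischerLarge45.card_centralizer_mul K.es p.Vs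
    (fun x hx => (p.Vs_le hx).1) p.z_Vs
  rw [K.cardP, p.card_Vs] at h
  omega

theorem card_C : Nat.card (Subgroup.centralizer (p.Vs : Set G)) = 2 ^ 15 * 360 := by
  set C := Subgroup.centralizer (p.Vs : Set G)
  let f : C →* (Cz z) ⧸ Q := (QuotientGroup.mk' Q).comp (Subgroup.inclusion p.C_le)
  have hr : f.range = p.X0 := by
    ext u
    constructor
    · rintro ⟨c, rfl⟩; exact p.mk_C c.2
    · intro hu
      obtain ⟨c, hc, rfl⟩ := p.exists_C hu
      exact ⟨⟨c, hc⟩, rfl⟩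
  have hk : Nat.card f.ker = 2 ^ 11 := by
    rw [← p.card_CP]
    refine Nat.card_congr ⟨fun c => ⟨((c : C) : G), ⟨_, (QuotientGroup.eq_one_iff _).1 c.2, rfl⟩, (c : C).2⟩,
      fun x => ⟨⟨x.1, x.2.2⟩, ?_⟩, fun c => rfl, fun x => rfl⟩
    obtain ⟨⟨a, ha, hax⟩, -⟩ := x.2
    exact (QuotientGroup.eq_one_iff _).2 (show (Subgroup.inclusion p.C_le ⟨x.1, x.2.2⟩ : Cz z) ∈ Q from
      (show a = Subgroup.inclusion p.C_le ⟨x.1, x.2.2⟩ from Subtype.ext hax) ▸ ha)
  have e := Subgroup.card_eq_card_quotient_mul_card_subgroup f.ker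
  rw [Nat.card_congr (QuotientGroup.quotientKerEquivRange f).toEquiv, hr, hk, p.card_X0] at e
  omega

theorem norm_iff {c : Cz z} : (c : G) ∈ Subgroup.normalizer (p.Vs : Set G) ↔
    ∀ a : K4, ∃ b : K4, (QuotientGroup.mk c : (Cz z) ⧸ Q) • p.ψ (a • one6) = p.ψ (b • one6) := by
  constructor
  · intro h a
    obtain ⟨y, hy⟩ := K.B.π_surj (p.ψ (a • one6))
    have hy' := (Subgroup.mem_normalizer_iff.1 h _).1 ((p.mem_Vs_iff y).2 ⟨_, hy⟩)
    obtain ⟨b, hb⟩ := (p.mem_Vs_iff ⟨c * y * c⁻¹, Subgroup.Normal.conj_mem ‹Q.Normal› y y.2 c⟩).1 hy'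
    exact ⟨b, by rw [← hy, ← hb]; exact K.B.π_conj c y _ rfl⟩
  · intro h
    refine p.mem_normalizer fun x hx => ?_
    obtain ⟨y, rfl, a, ha⟩ := p.mem_Vs.1 hx
    obtain ⟨b, hb⟩ := h a
    exact (p.mem_Vs_iff ⟨c * y * c⁻¹, Subgroup.Normal.conj_mem ‹Q.Normal› y y.2 c⟩).2
      ⟨b, by rw [← hb, ← ha]; exact (K.B.π_conj c y _ rfl).symm⟩

/-- The stabiliser of the line. -/
noncomputable def WL : Subgroup ((Cz z) ⧸ Q) :=
  ((Subgroup.normalizer (p.Vs : Set G)).subgroupOf (Cz z)).map (QuotientGroup.mk' Q)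

theorem stab_le_WL : MulAction.stabilizer ((Cz z) ⧸ Q) (K.B.π p.s) ≤ p.WL := by
  intro u hu
  obtain ⟨c, rfl⟩ := QuotientGroup.mk_surjective u
  refine ⟨c, p.norm_iff.2 fun a => ⟨tau K.B.D (p.w * QuotientGroup.mk c * p.w⁻¹) a, ?_⟩, rfl⟩
  have e : (QuotientGroup.mk c : (Cz z) ⧸ Q) = p.w⁻¹ * (p.w * QuotientGroup.mk c * p.w⁻¹) * p.w := by group
  have h1 : coordAct K.F.toFrame (p.w * QuotientGroup.mk c * p.w⁻¹) one6 = one6 :=
    p.ψ.injective (by rw [ψ_coordAct, ← e, ψ_one6]; exact hu)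
  conv_lhs => rw [e]
  rw [← ψ_coordAct, coordAct_smul, h1]

theorem card_WL : 34560 ≤ Nat.card p.WL := by
  -- the element acting as the scalar
  set u := p.w⁻¹ * K.B.D.h * p.w with hu
  have hh : ∀ c, coordAct K.F.toFrame K.B.D.h c = K4.w • c := fun c =>
    (coordEquiv K.F.toFrame).injective (by rw [coordEquiv_coordAct, coordEquiv_smul_w])
  have hact : ∀ a : K4, u • p.ψ (a • one6) = p.ψ ((K4.w * a) • one6) := fun a => by
    rw [hu, ← ψ_coordAct, hh, smul_smul]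
  have huW : u ∈ p.WL := by
    obtain ⟨c, hc⟩ := QuotientGroup.mk_surjective u
    exact ⟨c, p.norm_iff.2 fun a => ⟨_, by rw [hc]; exact hact a⟩, hc⟩
  set S := MulAction.stabilizer ((Cz z) ⧸ Q) (K.B.π p.s) with hS
  have hne : ∀ i j : Fin 3, i ≠ j → ((u ^ (i : ℕ))⁻¹ * u ^ (j : ℕ)) ∉ S := by
    have key : ∀ i : ℕ, u ^ i • K.B.π p.s = p.ψ ((K4.w ^ i) • one6) := fun i => by
      induction i with
      | zero => rw [pow_zero, pow_zero, one_smul, one_smul, ψ_one6]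
      | succ n ih => rw [pow_succ', mul_smul, ih, hact, pow_succ']
    intro i j hij h
    rw [hS, MulAction.mem_stabilizer_iff, mul_smul, inv_smul_eq_iff, key, key] at h
    have key2 : ∀ i j : Fin 3, i ≠ j → K4.w ^ (j : ℕ) ≠ K4.w ^ (i : ℕ) := by decide +kernel
    exact key2 i j hij (p.ψ_inj h)
  let f : Fin 3 × S → p.WL := fun x => ⟨u ^ (x.1 : ℕ) * x.2, mul_mem (pow_mem huW _) (p.stab_le_WL x.2.2)⟩
  have hf : Function.Injective f := by
    rintro ⟨i, x⟩ ⟨j, y⟩ h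
    have h' : u ^ (i : ℕ) * (x : (Cz z) ⧸ Q) = u ^ (j : ℕ) * y := congrArg Subtype.val h
    by_cases hij : i = j
    · subst hij
      exact Prod.ext rfl (Subtype.ext (mul_left_cancel h'))
    · exfalso
      apply hne i j hij
      have e : (u ^ (i : ℕ))⁻¹ * u ^ (j : ℕ) = (x : (Cz z) ⧸ Q) * (y : (Cz z) ⧸ Q)⁻¹ := by
        rw [eq_mul_inv_iff_mul_eq, mul_assoc, ← h', inv_mul_cancel_left]
      rw [e]
      exact mul_mem x.2 (inv_mem y.2)
  have h := Nat.card_le_card_of_injective f hf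
  rw [Nat.card_prod, Nat.card_eq_fintype_card, Fintype.card_fin, p.card_stab] at h
  omega

/-- The part of the normaliser centralising `z` is large. -/
theorem card_normalizer_z : 2 ^ 13 * 34560 ≤
    Nat.card (Subgroup.normalizer (p.Vs : Set G) ⊓ Cz z : Subgroup G) := by
  set Nz := (Subgroup.normalizer (p.Vs : Set G)).subgroupOf (Cz z) with hNz
  have hQle : Q ≤ Nz := fun q hq => p.norm_iff.2 fun a => ⟨a, by
    rw [(QuotientGroup.eq_one_iff q).2 hq, one_smul]⟩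
  let f : Nz →* (Cz z) ⧸ Q := (QuotientGroup.mk' Q).comp Nz.subtype
  have e := Subgroup.card_eq_card_quotient_mul_card_subgroup f.ker
  have hr : f.range = p.WL := by
    rw [MonoidHom.range_comp, Subgroup.range_subtype]
    rfl
  have hk : f.ker = Q.subgroupOf Nz := by ext x; simp [f, Subgroup.mem_subgroupOf]
  rw [Nat.card_congr (QuotientGroup.quotientKerEquivRange f).toEquiv, hr, hk,
    Nat.card_congr (Subgroup.subgroupOfEquivOfLe hQle).toEquiv, K.hQ] at e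
  rw [show (Subgroup.normalizer (p.Vs : Set G) ⊓ Cz z : Subgroup G) = Nz.map (Cz z).subtype by
      rw [hNz, Subgroup.subgroupOf_map_subtype],
    ← Nat.card_congr (Subgroup.equivMapOfInjective Nz _ (Cz z).subtype_injective).toEquiv, e]
  have := Nat.mul_le_mul_right (2 ^ 13) p.card_WL
  omega

end Pr

end Cfsg.Agent.Lib.FischerLarge99
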