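import Cfsg.Agent.Lib.FischerLarge99.Stab
import Cfsg.Agent.Lib.LargeFischer13.StabU

/-!
A large normal 2-subgroup in the stabiliser of a vector of the large orbit excludes the transposition
of two lines: otherwise the six lines would be permuted as the symmetric group, fixing that vector.

Owner: helper99.
-/

set_option autoImplicit false
set_option linter.style.haveILetI false
set_option linter.unusedSectionVars false

namespace Cfsg.Agent.Lib.FischerLarge99

open Cfsg.Agent.Lib.G24 Cfsg.Agent.Lib.LargeFischer13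
open Cfsg.Agent.Lib.LargeFischer13.Model
open scoped Pointwise

/-- A normal 2-subgroup of the symmetric group of degree six is trivial. -/
theorem eq_bot_of_two_normal (N : Subgroup (Equiv.Perm (Fin 6))) [N.Normal] (hp : IsPGroup 2 N) :
    N = ⊥ := by
  haveI : IsSimpleGroup (alternatingGroup (Fin 6)) := alternatingGroup.isSimpleGroup (by simp)
  set M := N.subgroupOf (alternatingGroup (Fin 6)) with hM
  have hbot : M = ⊥ := by
    rcases IsSimpleGroup.eq_bot_or_eq_top_of_normal M inferInstance with h | h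
    · exact h
    · exfalso
      have hle : alternatingGroup (Fin 6) ≤ N := fun x hx =>
        (h ▸ Subgroup.mem_top (⟨x, hx⟩ : alternatingGroup (Fin 6)) : _ ∈ M)
      obtain ⟨n, hn⟩ := IsPGroup.iff_card.1 (hp.to_le hle)
      rw [nat_card_alternatingGroup, Nat.card_eq_fintype_card, Fintype.card_fin] at hn
      have h3 : 3 ∣ 2 ^ n := hn ▸ by decide +kernel
      exact absurd (Nat.prime_three.dvd_of_dvd_pow h3) (by norm_num)
  rw [eq_bot_iff]
  intro x hx
  rw [Subgroup.mem_bot]
  have hinj : ∀ y ∈ N, y ∈ alternatingGroup (Fin 6) → y = 1 := fun y hy hyA => by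
    have : (⟨y, hyA⟩ : alternatingGroup (Fin 6)) ∈ M := hy
    rw [hbot, Subgroup.mem_bot] at this
    exact congrArg Subtype.val this
  have hc : x ∈ Subgroup.center (Equiv.Perm (Fin 6)) := Subgroup.mem_center_iff.2 fun g => by
    have h := hinj (g * x * g⁻¹ * x⁻¹) (mul_mem (Subgroup.Normal.conj_mem ‹_› x hx g) (inv_mem hx))
      (Equiv.Perm.mem_alternatingGroup.2 (by
        rw [map_mul, map_mul, map_mul, map_inv, map_inv, mul_inv_cancel_comm, mul_inv_cancel]))
    exact mul_inv_eq_iff_eq_mul.1 (mul_inv_eq_one.1 h)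
  have hsw : ∀ i j, x (Equiv.swap i j i) = Equiv.swap i j (x i) := fun i j =>
    (congrArg (fun e : Equiv.Perm (Fin 6) => e i) (Subgroup.mem_center_iff.1 hc (Equiv.swap i j))).symm
  refine Equiv.ext fun i => ?_
  by_contra hne
  have hex : ∀ i j : Fin 6, ∃ k, k ≠ i ∧ k ≠ j := by decide
  have hne' : x i ≠ i := hne
  obtain ⟨k, hki, hkx⟩ := hex i (x i)
  have h := hsw i k
  rw [Equiv.swap_apply_left, Equiv.swap_apply_of_ne_of_ne hne' hkx.symm] at h
  exact hki (x.injective h)

variable {W : Type*} [Group W] [Finite W] {V : Type*} [AddCommGroup V] [Finite V]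
  [DistribMulAction W V] {D : Core W V} (F : NFrame D)

theorem noSwap_of_ones (E : Subgroup W) (hle : E ≤ MulAction.stabilizer W (F.vec ones))
    (hn : ∀ g ∈ MulAction.stabilizer W (F.vec ones), ∀ e ∈ E, g * e * g⁻¹ ∈ E)
    (hp : IsPGroup 2 E) (hbig : 16 < Nat.card E) : NoSwap F := by
  classical
  intro x hxh hx
  have hxm : F.IsMono x (Equiv.swap 0 1) (fun _ => 0) := by
    intro i
    have h := coordEquiv_coordAct F.toFrame x (Pi.single i 1)
    rw [hx, coordEquiv_eq, coordEquiv_eq] at h
    have e : ∀ j, toCoord (Pi.single j 1) = Model.unit j (some 0) := fun j => funext fun l => by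
      rcases eq_or_ne l j with rfl | hl
      · simp [toCoord, Model.unit]; rfl
      · simp [toCoord, Model.unit, hl]; rfl
    have e1 : (fun l => (Pi.single i 1 : V6) (Equiv.swap 0 1 l)) = Pi.single (Equiv.swap 0 1 i) 1 :=
      funext fun l => by simp [Pi.single_apply, Equiv.swap_apply_eq_iff]
    rw [e1, e, e, F.vec_unit, F.vec_unit] at h
    rw [h]
    simp [Core.lineEl]
  have hex : ∀ π : Equiv.Perm (Fin 6), ∃ w : W, w * D.h = D.h * w ∧ F.IsMono w π (fun _ => 0) := by
    intro π
    rcases Int.units_eq_one_or (Equiv.Perm.sign π) with hs | hs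
    · obtain ⟨p, hp, h⟩ := F.exists_pure π hs
      exact ⟨p, D.central p (D.P_le hp), h⟩
    · obtain ⟨p, hp, h⟩ := F.exists_pure (Equiv.swap 0 1 * π)
        (by rw [map_mul, hs, Equiv.Perm.sign_swap (by decide)]; rfl)
      refine ⟨x * p, ?_, ?_⟩
      · rw [mul_assoc, D.central p (D.P_le hp), ← mul_assoc, hxh, mul_assoc]
      · simpa [← mul_assoc, Equiv.swap_mul_self] using F.mono_mul hxh hxm h
  choose w hwh hw using hex
  let ρ : Equiv.Perm (Fin 6) →* W := MonoidHom.mk' w fun a c =>
    F.eq_of_basis (hwh _) (by rw [mul_assoc, hwh c, ← mul_assoc, hwh a, mul_assoc]) (hw (a * c))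
      (by simpa using F.mono_mul (hwh a) (hw a) (hw c))
  have hfix : ∀ π, ρ π ∈ MulAction.stabilizer W (F.vec ones) := fun π =>
    MulAction.mem_stabilizer_iff.2 ((F.smul_vec_comm (hwh π) (hw π) ones).trans (congrArg _ (by
      funext j; simp [move, ones])))
  have hinj : Function.Injective ρ := fun a c h => by
    exact (F.perm_unique (hw a) (show F.IsMono (w a) c (fun _ => 0) from
      (show w a = w c from h) ▸ hw c)).1
  haveI : (E.comap ρ).Normal := ⟨fun n hn' g => by
    show ρ (g * n * g⁻¹) ∈ E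
    rw [map_mul, map_mul, map_inv]
    exact hn _ (hfix g) _ hn'⟩
  have hN : E.comap ρ = ⊥ := eq_bot_of_two_normal _ (hp.comap_of_injective ρ hinj)
  -- count
  have hdisj : ρ.range ⊓ E = ⊥ := by
    rw [eq_bot_iff]
    rintro _ ⟨⟨π, rfl⟩, hπ⟩
    have : π ∈ E.comap ρ := hπ
    rw [hN, Subgroup.mem_bot] at this
    rw [this, map_one]; exact one_mem _
  have hle' : ρ.range ≤ MulAction.stabilizer W (F.vec ones) := by rintro _ ⟨π, rfl⟩; exact hfix π
  have hnorm : ρ.range ≤ Subgroup.normalizer (E : Set W) := fun g hg =>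
    Subgroup.mem_normalizer_fintype (fun e he => hn g (hle' hg) e he) 
  have hd : (Nat.card ρ.range * Nat.card E) ∣ 11520 := by
    rw [← F.card_stab_R Model.isR_ones]
    haveI : Fintype W := Fintype.ofFinite W
    have hc : Nat.card (ρ.range ⊔ E : Subgroup W) = Nat.card ρ.range * Nat.card E := by
      have e1 : ((ρ.range ⊔ E : Subgroup W) : Set W) = (ρ.range : Set W) * (E : Set W) :=
        (Subgroup.coe_mul_of_left_le_normalizer_right ρ.range E hnorm).symm ▸ rfl
      have hi : Function.Injective fun p : ρ.range × E => (p.1 : W) * p.2 :=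
        Subgroup.mul_injective_of_disjoint (disjoint_iff.2 hdisj)
      have hrange : Set.range (fun p : ρ.range × E => (p.1 : W) * p.2) = (ρ.range : Set W) * (E : Set W) := by
        ext g; simp [Set.mem_mul]
      rw [← Nat.card_prod, ← Nat.card_range_of_injective hi, hrange, ← e1]
      rfl
    rw [← hc]
    exact Subgroup.card_dvd_of_le (sup_le hle' hle)
  have h720 : Nat.card ρ.range = 720 := by
    rw [← Nat.card_congr (MonoidHom.ofInjective hinj).toEquiv, Nat.card_eq_fintype_card, Fintype.card_perm,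
      Fintype.card_fin]
    rfl
  rw [h720] at hd
  have := Nat.le_of_dvd (by norm_num) hd
  omega

/-- The same for any vector of the large orbit. -/
theorem noSwap_of_large {c : Coord} (hc : IsR c) (E : Subgroup W)
    (hle : E ≤ MulAction.stabilizer W (F.vec c))
    (hn : ∀ g ∈ MulAction.stabilizer W (F.vec c), ∀ e ∈ E, g * e * g⁻¹ ∈ E)
    (hp : IsPGroup 2 E) (hbig : 16 < Nat.card E) : NoSwap F := by
  obtain ⟨w, hw0⟩ := F.transR c ones hc Model.isR_ones
  have hw : w • F.vec c = F.vec ones := hw0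
  have hst : ∀ g, g ∈ MulAction.stabilizer W (F.vec ones) ↔ w⁻¹ * g * w ∈ MulAction.stabilizer W (F.vec c) :=
    fun g => by
      rw [MulAction.mem_stabilizer_iff, MulAction.mem_stabilizer_iff, mul_smul, mul_smul, inv_smul_eq_iff, hw]
  refine noSwap_of_ones F (E.map (MulAut.conj w).toMonoidHom) ?_ ?_ (hp.map _) ?_
  · rintro _ ⟨e, he, rfl⟩
    rw [hst]
    simpa [mul_assoc] using hle he
  · rintro g hg _ ⟨e, he, rfl⟩
    exact ⟨(w⁻¹ * g * w) * e * (w⁻¹ * g * w)⁻¹, hn _ ((hst g).1 hg) e he, by simp [mul_assoc]⟩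
  · rwa [← Nat.card_congr (Subgroup.equivMapOfInjective E _ (MulAut.conj w).injective).toEquiv]

end Cfsg.Agent.Lib.FischerLarge99
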