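import Cfsg.Agent.Lib.FischerLarge99.Line
import Cfsg.Agent.Lib.FischerLarge99.GLThree
import Cfsg.Agent.Lib.PGroups.Frattini
import Cfsg.Agent.Lib.PSolvable.Basic

/-!
The normaliser of the elementary group of order eight: its largest normal 2-subgroup is special of
order `2^15`, and the quotient is `SL(3, 2) × A₆`.

Owner: helper99.
-/

set_option autoImplicit false
set_option linter.style.haveILetI false
set_option linter.unusedSectionVars false

namespace Cfsg.Agent.Lib.FischerLarge99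

open Cfsg.Agent.Lib.G24 Cfsg.Agent.Lib.LargeFischer13 Cfsg.Agent.Lib.LargeExtraspecial.Basic
open Cfsg.Agent.Lib.LargeFischer13.Model

open scoped commutatorElement

universe u

theorem not_two_pow {n m : ℕ} (hm : m = 168 ∨ m = 360) : m ≠ 2 ^ n := fun e => by
  have h3 : 3 ∣ 2 ^ n := e ▸ (by rcases hm with rfl | rfl <;> norm_num)
  exact absurd (Nat.prime_three.dvd_of_dvd_pow h3) (by norm_num)

theorem eq_bot_of_simple {M : Type*} [Group M] [IsSimpleGroup M] (hm : Nat.card M = 168 ∨ Nat.card M = 360)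
    (N : Subgroup M) (hN : N.Normal) (hp : IsPGroup 2 N) : N = ⊥ := by
  haveI : Finite M := Nat.finite_of_card_ne_zero (by rcases hm with e | e <;> omega)
  rcases IsSimpleGroup.eq_bot_or_eq_top_of_normal N hN with h | h
  · exact h
  · exfalso
    haveI : Fact (Nat.Prime 2) := ⟨Nat.prime_two⟩
    obtain ⟨n, hn⟩ := IsPGroup.iff_card.1 hp
    rw [h, Subgroup.card_top] at hn
    exact not_two_pow hm hn

theorem bit_add : ∀ a b : ZMod 2, bit (a + b) = bit a + bit b := by decide +kernel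

theorem trace_two : ∀ a : K4, a + conjK a = 0 → K4.v * a + conjK (K4.v * a) = 0 → a = 0 := by decide +kernel

variable {G : Type u} [Group G] [Finite G] {z : G} {Q : Subgroup (Cz z)} [Q.Normal]

/-- Two elements of `Q` commute when their vectors are orthogonal. -/
theorem commute_iff_b (K : Ctx z Q) (x y : Q) :
    Commute ((x : Cz z) : G) ((y : Cz z) : G) ↔ K.B.D.b (K.B.π x) (K.B.π y) = 0 := by
  set a : G := ((x : Cz z) : G)
  set b : G := ((y : Cz z) : G)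
  have hcz : ∀ c : Q, Commute ((c : Cz z) : G) z := fun c => z_center
  have hne : z ≠ 1 := K.es.ne
  have hsq := sq_fibre K.B K.hz
  have e0 : ((↑(x * y) : Cz z) : G) * ((↑(x * y) : Cz z) : G) = a * (b * a * b⁻¹) * (b * b) := by
    show a * b * (a * b) = _
    group
  rw [hsq, hsq y, K.B.π_mul] at e0
  have hx := hsq x
  have hA : ∀ A B C : ZMod 2, K.B.D.q (K.B.π x + K.B.π y) = A → K.B.D.q (K.B.π x) = B →
      K.B.D.q (K.B.π y) = C → K.B.D.b (K.B.π x) (K.B.π y) = A + B + C := fun A B C h1 h2 h3 => by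
    rw [Core.b, h1, h2, h3]
  rw [hA _ _ _ rfl rfl rfl]
  rcases K.es.conj b ⟨_, y.2, rfl⟩ a ⟨_, x.2, rfl⟩ with e | e
  · have hc : Commute a b := (show Commute b a from mul_inv_eq_iff_eq_mul.1 e).symm
    rw [e, hx] at e0
    simp only [hc, true_iff]
    generalize K.B.D.q (K.B.π x + K.B.π y) = A, K.B.D.q (K.B.π x) = B, K.B.D.q (K.B.π y) = C at e0
    have key : ∀ A B C : ZMod 2, A + B + C ≠ 0 →
        (A = 0 ∧ B = 0 ∧ C ≠ 0) ∨ (A = 0 ∧ B ≠ 0 ∧ C = 0) ∨ (A ≠ 0 ∧ B = 0 ∧ C = 0) ∨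
          (A ≠ 0 ∧ B ≠ 0 ∧ C ≠ 0) := by decide
    by_contra h
    rcases key A B C h with ⟨h1, h2, h3⟩ | ⟨h1, h2, h3⟩ | ⟨h1, h2, h3⟩ | ⟨h1, h2, h3⟩
    all_goals simp [h1, h2, h3, sq_z K.hz, hne, hne.symm] at e0
  · have hnc : ¬ Commute a b := fun h => hne (by
      rw [h.symm.eq, mul_inv_cancel_right] at e
      simpa using e.symm)
    rw [e, ← mul_assoc, hx] at e0
    simp only [hnc, false_iff]
    generalize K.B.D.q (K.B.π x + K.B.π y) = A, K.B.D.q (K.B.π x) = B, K.B.D.q (K.B.π y) = C at e0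
    have key : ∀ A B C : ZMod 2, A + B + C = 0 →
        (A = 0 ∧ B = 0 ∧ C = 0) ∨ (A = 0 ∧ B ≠ 0 ∧ C ≠ 0) ∨ (A ≠ 0 ∧ B = 0 ∧ C ≠ 0) ∨
          (A ≠ 0 ∧ B ≠ 0 ∧ C = 0) := by decide
    intro h
    rcases key A B C h with ⟨h1, h2, h3⟩ | ⟨h1, h2, h3⟩ | ⟨h1, h2, h3⟩ | ⟨h1, h2, h3⟩
    all_goals simp [h1, h2, h3, sq_z K.hz, hne, hne.symm] at e0

namespace Pr

variable {K : Ctx z Q} (p : Pr K)

/-- The normaliser. -/
abbrev L : Subgroup G := Subgroup.normalizer (p.Vs : Set G)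

/-- The centraliser. -/
abbrev C : Subgroup G := Subgroup.centralizer (p.Vs : Set G)

theorem C_le_L : p.C ≤ p.L := Subgroup.centralizer_le_normalizer _

theorem conj_C {l c : G} (hl : l ∈ p.L) (hc : c ∈ p.C) : l * c * l⁻¹ ∈ p.C := by
  rw [Subgroup.mem_centralizer_iff] at hc ⊢
  intro v hv
  have h := hc _ ((Subgroup.mem_normalizer_iff''.1 hl v).1 hv)
  calc v * (l * c * l⁻¹) = l * ((l⁻¹ * v * l) * c) * l⁻¹ := by group
    _ = l * (c * (l⁻¹ * v * l)) * l⁻¹ := by rw [h]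
    _ = _ := by group

theorem P_le_L : Ctx.P (Q := Q) ≤ p.L := by
  rintro _ ⟨q, hq, rfl⟩
  exact p.norm_iff.2 fun a => ⟨a, by rw [(QuotientGroup.eq_one_iff q).2 hq, one_smul]⟩

theorem transitive {x : G} (hx : x ∈ p.Vs) (hx1 : x ≠ 1) : ∃ l ∈ p.L, l * z * l⁻¹ = x := by
  obtain ⟨g0, hg0, -, hg0L, -⟩ := p.exists_swap
  by_cases hxz : x = z
  · exact ⟨1, one_mem _, by rw [hxz]; group⟩
  obtain ⟨y, rfl, a, ha⟩ := p.mem_Vs.1 hx
  have ha0 : a ≠ 0 := fun h => by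
    rw [h, zero_smul, map_zero, K.B.π_zero] at ha
    rcases ha with e | e
    · exact hx1 (by rw [e]; rfl)
    · exact hxz e
  -- a scalar carries `s` to `y` up to `z`
  obtain ⟨k, hk⟩ : ∃ k : ℕ, K4.w ^ k = a := by
    have h : ∀ a : K4, a ≠ 0 → ∃ k : Fin 3, K4.w ^ (k : ℕ) = a := by decide +kernel
    obtain ⟨k, hk⟩ := h a ha0
    exact ⟨_, hk⟩
  set u := p.w⁻¹ * K.B.D.h * p.w with hu
  have hh : ∀ c, coordAct K.F.toFrame K.B.D.h c = K4.w • c := fun c =>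
    (coordEquiv K.F.toFrame).injective (by rw [coordEquiv_coordAct, coordEquiv_smul_w])
  have hact : ∀ b : K4, u • p.ψ (b • one6) = p.ψ ((K4.w * b) • one6) := fun b => by
    rw [hu, ← ψ_coordAct, hh, smul_smul]
  obtain ⟨c, hc⟩ := QuotientGroup.mk_surjective u
  have hcL : (c : G) ∈ p.L := p.norm_iff.2 fun b => ⟨_, by rw [hc]; exact hact b⟩
  have hpow : (c : G) ^ k ∈ p.L := pow_mem hcL k
  have hyk : (QuotientGroup.mk (c ^ k) : (Cz z) ⧸ Q) • K.B.π p.s = K.B.π y := by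
    rw [QuotientGroup.mk_pow, hc, ha, ← hk]
    clear hk ha
    induction k with
    | zero => rw [pow_zero, pow_zero, one_smul, one_smul, ψ_one6]
    | succ n ih => rw [pow_succ', mul_smul, ih (pow_mem hcL n), hact, pow_succ']
  have hcs : c ^ k * p.s * (c ^ k)⁻¹ ∈ Q := Subgroup.Normal.conj_mem ‹Q.Normal› _ p.s.2 _
  have h := K.B.π_conj (c ^ k) p.s ⟨_, hcs⟩ rfl
  rw [hyk] at h
  have hcz : ∀ d : Cz z, (d : G) * z * (d : G)⁻¹ = z := fun d => by
    rw [(z_center (c := d)).eq, mul_inv_cancel_right]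
  rcases K.B.fibre h with e | e
  · refine ⟨(c : G) ^ k * g0, mul_mem hpow hg0L, ?_⟩
    have e' : (c : G) ^ k * p.sG * ((c : G) ^ k)⁻¹ = ((y : Cz z) : G) := by
      rw [← SubmonoidClass.coe_pow]
      exact congrArg (fun q : Q => ((q : Cz z) : G)) e
    rw [← e', ← hg0]; group
  · have e' : (c : G) ^ k * p.sG * ((c : G) ^ k)⁻¹ = ((y : Cz z) : G) * z := by
      rw [← SubmonoidClass.coe_pow]; exact e
    obtain ⟨q, hq, hqy⟩ := K.es.exists_conj_ne (p.Vs_le hx).1 hx1 hxz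
    refine ⟨q * ((c : G) ^ k * g0), mul_mem (p.P_le_L hq) (mul_mem hpow hg0L), ?_⟩
    calc q * ((c : G) ^ k * g0) * z * (q * ((c : G) ^ k * g0))⁻¹
        = q * ((c : G) ^ k * (g0 * z * g0⁻¹) * ((c : G) ^ k)⁻¹) * q⁻¹ := by group
      _ = (q * ((y : Cz z) : G) * q⁻¹) * (q * z * q⁻¹) := by rw [hg0, e']; group
      _ = ((y : Cz z) : G) := by
        rw [hqy, (K.es.comm q hq).eq, mul_inv_cancel_right, mul_assoc, K.es.sq, mul_one]

theorem exists_action' : ∃ φ : p.L →* SL32, Function.Surjective φ ∧ ∀ l, φ l = 1 ↔ (l : G) ∈ p.C := by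
  obtain ⟨φ, hφ⟩ := exists_action p.Vs (fun x hx => p.Vs_sq hx) p.card_Vs
  refine ⟨φ, ?_, hφ⟩
  have hker : Nat.card φ.ker = 2 ^ 15 * 360 := by
    rw [← p.card_C]
    exact Nat.card_congr ⟨fun l => ⟨((l : p.L) : G), (hφ l).1 l.2⟩, fun c => ⟨⟨c, p.C_le_L c.2⟩, (hφ _).2 c.2⟩,
      fun _ => rfl, fun _ => rfl⟩
  have hge : 7 * (2 ^ 13 * 34560) ≤ Nat.card p.L := by
    have hne : Nat.card {x : p.Vs // x ≠ 1} = 7 := by
      classical
      haveI := Fintype.ofFinite p.Vs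
      rw [Nat.card_eq_fintype_card, Fintype.card_subtype_compl, Fintype.card_subtype_eq, ← Nat.card_eq_fintype_card,
        p.card_Vs]
    choose l hl hlx using fun x : {x : p.Vs // x ≠ 1} =>
      p.transitive x.1.2 (fun h => x.2 (Subtype.ext h))
    let f : {x : p.Vs // x ≠ 1} × (p.L ⊓ Cz z : Subgroup G) → p.L := fun a =>
      ⟨l a.1 * a.2, mul_mem (hl _) a.2.2.1⟩
    have hf : Function.Injective f := by
      rintro ⟨x, m⟩ ⟨y, n⟩ h
      have h' : l x * (m : G) = l y * (n : G) := congrArg Subtype.val h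
      have hx : ∀ (x : {x : p.Vs // x ≠ 1}) (m : (p.L ⊓ Cz z : Subgroup G)),
          (l x * (m : G)) * z * (l x * (m : G))⁻¹ = ((x.1 : p.Vs) : G) := fun x m => by
        have hm : Commute (m : G) z := mem_centralizer_single.1 m.2.2
        calc l x * (m : G) * z * (l x * (m : G))⁻¹ = l x * ((m : G) * z * (m : G)⁻¹) * (l x)⁻¹ := by group
          _ = _ := by rw [hm.eq, mul_inv_cancel_right, hlx]
      have hxy : x = y := Subtype.ext (Subtype.ext (by rw [← hx x m, h', hx]))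
      subst hxy
      exact Prod.ext rfl (Subtype.ext (mul_left_cancel h'))
    have h := Nat.card_le_card_of_injective f hf
    rw [Nat.card_prod, hne] at h
    exact le_trans (Nat.mul_le_mul_left 7 p.card_normalizer_z) h
  have e := Subgroup.card_eq_card_quotient_mul_card_subgroup φ.ker
  rw [Nat.card_congr (QuotientGroup.quotientKerEquivRange φ).toEquiv, hker] at e
  have hle : Nat.card φ.range ≤ 168 := card_SL32 ▸ Subgroup.card_le_card_group _
  rw [← MonoidHom.range_eq_top]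
  haveI : Finite SL32 := Nat.finite_of_card_ne_zero (by rw [card_SL32]; norm_num)
  have h168 := hge.trans_eq e
  exact Subgroup.eq_top_of_le_card _ (by rw [card_SL32]; omega)

/-- The largest normal 2-subgroup. -/
noncomputable def R0 : Subgroup G := p.C ⊓ (p.E.comap (QuotientGroup.mk' Q)).map (Cz z).subtype

theorem mem_R0 {c : Cz z} : (c : G) ∈ p.R0 ↔ (c : G) ∈ p.C ∧ QuotientGroup.mk c ∈ p.E :=
  and_congr_right fun _ => ⟨fun ⟨d, hd, hdc⟩ => (show d = c from Subtype.ext hdc) ▸ hd, fun h => ⟨c, h, rfl⟩⟩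

theorem exists_quot : ∃ χ : p.C →* alternatingGroup (Fin 6), Function.Surjective χ ∧
    (∀ c, χ c = 1 ↔ (c : G) ∈ p.R0) ∧ Nat.card p.R0 = 2 ^ 15 := by
  obtain ⟨hn, ⟨e⟩⟩ := K.F.big_quotient p.big
  set S := MulAction.stabilizer ((Cz z) ⧸ Q) (K.B.π p.s)
  haveI : (p.E.subgroupOf S).Normal := hn
  let f : p.C →* S := ((QuotientGroup.mk' Q).comp (Subgroup.inclusion p.C_le)).codRestrict S fun c =>
    (p.mk_C (c := Subgroup.inclusion p.C_le c) c.2).1
  let χ : p.C →* alternatingGroup (Fin 6) := e.toMonoidHom.comp ((QuotientGroup.mk' _).comp f)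
  have hker : ∀ c, χ c = 1 ↔ (c : G) ∈ p.R0 := fun c => by
    show e (QuotientGroup.mk (f c)) = 1 ↔ _
    rw [MulEquiv.map_eq_one_iff, QuotientGroup.eq_one_iff, Subgroup.mem_subgroupOf]
    exact (p.mem_R0 (c := Subgroup.inclusion p.C_le c)).trans (and_iff_right c.2) |>.symm
  have hR : Nat.card χ.ker = Nat.card p.R0 :=
    Nat.card_congr ⟨fun c => ⟨((c : p.C) : G), (hker c).1 c.2⟩,
      fun r => ⟨⟨r.1, r.2.1⟩, (hker _).2 r.2⟩, fun _ => rfl, fun _ => rfl⟩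
  -- the size of the kernel
  have hRle : Nat.card p.R0 ≤ 2 ^ 16 := by
    let g : p.R0 →* (Cz z) ⧸ Q :=
      (QuotientGroup.mk' Q).comp (Subgroup.inclusion (inf_le_left.trans p.C_le))
    have h1 : Nat.card g.range ≤ 32 := by
      rw [← p.card_E]
      refine Subgroup.card_le_of_le ?_
      rintro _ ⟨r, rfl⟩
      exact (p.mem_R0 (c := Subgroup.inclusion (inf_le_left.trans p.C_le) r)).1 r.2 |>.2
    have h2 : Nat.card g.ker ≤ 2 ^ 11 := by
      rw [← p.card_CP]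
      exact Nat.card_le_card_of_injective
        (fun r => ⟨((r : p.R0) : G), ⟨_, (QuotientGroup.eq_one_iff _).1 r.2, rfl⟩, (r : p.R0).2.1⟩)
        fun a b hab => Subtype.ext (Subtype.ext (Subtype.mk.inj hab))
    have e1 := Subgroup.card_eq_card_quotient_mul_card_subgroup g.ker
    rw [Nat.card_congr (QuotientGroup.quotientKerEquivRange g).toEquiv] at e1
    have := Nat.mul_le_mul h1 h2
    omega
  haveI : IsSimpleGroup (alternatingGroup (Fin 6)) := alternatingGroup.isSimpleGroup (by simp)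
  have h360 : Nat.card (alternatingGroup (Fin 6)) = 360 := by
    rw [nat_card_alternatingGroup, Nat.card_eq_fintype_card, Fintype.card_fin]; rfl
  have e1 := Subgroup.card_eq_card_quotient_mul_card_subgroup χ.ker
  rw [Nat.card_congr (QuotientGroup.quotientKerEquivRange χ).toEquiv, p.card_C, hR] at e1
  have hle : Nat.card χ.range ≤ 360 := h360 ▸ Subgroup.card_le_card_group _
  have htop : χ.range = ⊤ := by
    by_contra hne
    have hidx := χ.range.card_mul_index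
    rw [h360] at hidx
    have hi1 : χ.range.index ≠ 1 := fun h => hne (Subgroup.index_eq_one.1 h)
    have hpos : 0 < Nat.card χ.range := Nat.card_pos
    have hge : 180 ≤ Nat.card χ.range := by
      by_contra h
      have := Nat.mul_le_mul (show Nat.card χ.range ≤ 179 by omega) hRle
      omega
    have hi2 : χ.range.index = 2 := by
      have : χ.range.index ≠ 0 := fun h => by rw [h] at hidx; omega
      by_contra h
      have := Nat.mul_le_mul hge (show 3 ≤ χ.range.index by omega)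
      omega
    rcases IsSimpleGroup.eq_bot_or_eq_top_of_normal χ.range (Subgroup.normal_of_index_eq_two hi2) with h | h
    · rw [h, Subgroup.card_bot] at hge; omega
    · exact hne h
  refine ⟨χ, MonoidHom.range_eq_top.1 htop, hker, ?_⟩
  rw [htop, Subgroup.card_top, h360] at e1
  omega

theorem card_R0 : Nat.card p.R0 = 2 ^ 15 := by
  obtain ⟨-, -, -, h⟩ := p.exists_quot
  exact h

theorem isPGroup_R0 : IsPGroup 2 p.R0 := IsPGroup.of_card p.card_R0

theorem le_R0 {N : Subgroup G} (hN : N ≤ p.C) (hn : ∀ c ∈ p.C, ∀ x ∈ N, c * x * c⁻¹ ∈ N)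
    (hp : IsPGroup 2 N) : N ≤ p.R0 := by
  obtain ⟨χ, hχ, hker, -⟩ := p.exists_quot
  haveI : IsSimpleGroup (alternatingGroup (Fin 6)) := alternatingGroup.isSimpleGroup (by simp)
  set N' := N.subgroupOf p.C
  haveI : N'.Normal := ⟨fun x hx c => hn c c.2 _ hx⟩
  have hbot : N'.map χ = ⊥ := eq_bot_of_simple
    (Or.inr (by rw [nat_card_alternatingGroup, Nat.card_eq_fintype_card, Fintype.card_fin]; rfl)) _
    (Subgroup.Normal.map inferInstance χ hχ) ((hp.comap_subtype (K := p.C)).map χ)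
  intro x hx
  have h : χ ⟨x, hN hx⟩ ∈ N'.map χ := ⟨⟨x, hN hx⟩, hx, rfl⟩
  rw [hbot, Subgroup.mem_bot] at h
  exact (hker _).1 h

theorem conj_R0 {l r : G} (hl : l ∈ p.L) (hr : r ∈ p.R0) : l * r * l⁻¹ ∈ p.R0 := by
  obtain ⟨χ, -, hker, -⟩ := p.exists_quot
  refine p.le_R0 (N := cj l p.R0) ?_ ?_ (p.isPGroup_R0.map _) ⟨r, hr, rfl⟩
  · rintro _ ⟨x, hx, rfl⟩
    exact p.conj_C hl hx.1
  · intro c hc _ hx
    rw [mem_cj] at hx ⊢
    have hc' : l⁻¹ * c * l ∈ p.C := by simpa using p.conj_C (inv_mem hl) hc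
    have := (hker (⟨_, hc'⟩ * ⟨_, hx.1⟩ * (⟨_, hc'⟩ : p.C)⁻¹)).1 (by
      rw [map_mul, map_mul, map_inv, (hker ⟨_, hx.1⟩).2 hx, mul_one, mul_inv_cancel])
    convert this using 1
    simp only [Subgroup.coe_mul, Subgroup.coe_inv]
    group

theorem PC_le_R0 : Ctx.P (Q := Q) ⊓ p.C ≤ p.R0 := by
  rintro _ ⟨⟨q, hq, rfl⟩, hc⟩
  refine p.mem_R0.2 ⟨hc, ?_⟩
  rw [(QuotientGroup.eq_one_iff q).2 hq]
  exact one_mem _

theorem Vs_le_R0 : p.Vs ≤ p.R0 := fun x hx => p.PC_le_R0 ⟨(p.Vs_le hx).1,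
  Subgroup.mem_centralizer_iff.2 fun _ hy => (p.D0_comm (p.Vs_le hy) (p.Vs_le hx)).eq⟩

/-- Every element of `R0` is a product from the two extraspecial subgroups. -/
theorem R0_decomp {r : G} (hr : r ∈ p.R0) : ∃ a ∈ cj p.g (Ctx.P (Q := Q)) ⊓ p.C,
    ∃ b ∈ Ctx.P (Q := Q) ⊓ p.C, r = a * b := by
  obtain ⟨hrC, c, hcE, rfl⟩ := hr
  obtain ⟨a, ha, hac⟩ := p.mem_E.1 hcE
  have haC : (a : G) ∈ p.C := by
    rw [Subgroup.mem_centralizer_iff]
    intro v hv
    obtain ⟨y, rfl, -⟩ := p.mem_Vs.1 hv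
    have h := K.B.π_conj a y ⟨a * y * a⁻¹, Subgroup.Normal.conj_mem ‹Q.Normal› y y.2 a⟩ rfl
    have h2 : (QuotientGroup.mk c : (Cz z) ⧸ Q) • K.B.π y = K.B.π y := K.B.π_conj c y y (Subtype.ext (by
      show ((y : Cz z) : G) = (c : G) * ((y : Cz z) : G) * (c : G)⁻¹
      have h3 : ((y : Cz z) : G) * (c : G) = (c : G) * ((y : Cz z) : G) :=
        Subgroup.mem_centralizer_iff.1 hrC _ hv
      rw [← h3, mul_inv_cancel_right]))
    rw [show (QuotientGroup.mk a : (Cz z) ⧸ Q) = QuotientGroup.mk c from hac, h2] at h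
    rcases p.es'.conj _ ha _ (p.Vs_le hv).2 with e | e
    · exact (mul_inv_eq_iff_eq_mul.1 e).symm
    · exfalso
      rcases K.B.fibre h with e1 | e1
      · have e1' : (a : G) * ((y : Cz z) : G) * (a : G)⁻¹ = ((y : Cz z) : G) :=
          congrArg (fun q : Q => ((q : Cz z) : G)) e1
        exact p.s_ne_one (mul_left_cancel ((e.symm.trans e1').trans (mul_one _).symm))
      · have e1' : (a : G) * ((y : Cz z) : G) * (a : G)⁻¹ = ((y : Cz z) : G) * z := e1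
        exact p.hs (mul_left_cancel (e.symm.trans e1'))
  refine ⟨a, ⟨ha, haC⟩, (a : G)⁻¹ * c, ⟨⟨a⁻¹ * c, QuotientGroup.eq.1 hac, rfl⟩, Subgroup.mul_mem _ (Subgroup.inv_mem _ haC) hrC⟩, ?_⟩
  show (c : G) = _
  group

theorem psi_zero_iff {y : Q} {c : V6} (hy : K.B.π y = p.ψ c) :
    ((y : Cz z) : G) ∈ p.C ↔ ∑ i, c i = 0 := by
  have hq : ∀ d : V6, bit (K.B.D.q (p.ψ d)) = Cfsg.hermForm 6 K4 2 d d := fun d => by
    rw [ψ_apply, K.B.D.q_smul, coordEquiv_eq, K.F.q_eq, herm_self]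
  have hb : ∀ d d' : V6, K.B.D.b (p.ψ d) (p.ψ d') = 0 ↔
      Cfsg.hermForm 6 K4 2 d d' + conjK (Cfsg.hermForm 6 K4 2 d d') = 0 := fun d d' => by
    have h := congrArg bit (show K.B.D.q (p.ψ d + p.ψ d') =
      K.B.D.q (p.ψ d) + K.B.D.q (p.ψ d') + K.B.D.b (p.ψ d) (p.ψ d') from K.B.D.q_add _ _)
    rw [← map_add, bit_add, bit_add, hq, hq, hq, herm6_add] at h
    rw [add_left_cancel h]
    generalize K.B.D.b (p.ψ d) (p.ψ d') = b
    revert b
    decide +kernel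
  have hw : Cfsg.hermForm 6 K4 2 c (K4.w • one6) = K4.v * ∑ i, c i := by
    simp only [Cfsg.hermForm, one6, Pi.smul_apply, smul_eq_mul, mul_one, Finset.mul_sum]
    exact Finset.sum_congr rfl fun i _ => by generalize c i = a; revert a; decide +kernel
  obtain ⟨t, ht⟩ := K.B.π_surj (p.ψ (K4.w • one6))
  constructor
  · intro hC
    have h1 : K.B.D.b (K.B.π y) (K.B.π p.s) = 0 :=
      (commute_iff_b K y p.s).1 (Subgroup.mem_centralizer_iff.1 hC _ p.s_Vs).symm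
    have h2 : K.B.D.b (K.B.π y) (K.B.π t) = 0 :=
      (commute_iff_b K y t).1 (Subgroup.mem_centralizer_iff.1 hC _ ((p.mem_Vs_iff t).2 ⟨_, ht⟩)).symm
    rw [hy, ← ψ_one6, hb, herm_one6] at h1
    rw [hy, ht, hb, hw] at h2
    exact trace_two _ h1 h2
  · intro hs
    rw [Subgroup.mem_centralizer_iff]
    intro v hv
    obtain ⟨y', rfl, a, ha⟩ := p.mem_Vs.1 hv
    refine ((commute_iff_b K y y').2 ?_).symm.eq
    rw [hy, ha, hb]
    have : Cfsg.hermForm 6 K4 2 c (a • one6) = (∑ i, c i) * a ^ 2 := by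
      simp only [Cfsg.hermForm, one6, Pi.smul_apply, smul_eq_mul, mul_one, Finset.sum_mul]
    rw [this, hs, zero_mul, map_zero, add_zero]

/-- `R0` moves its part in `Q` only inside the group of order eight. -/
theorem comm_PC {r x : G} (hr : r ∈ p.R0) (hx : x ∈ Ctx.P (Q := Q) ⊓ p.C) :
    r * x * r⁻¹ * x⁻¹ ∈ p.Vs := by
  obtain ⟨⟨q, hq, rfl⟩, hxC⟩ := hx
  obtain ⟨hrC, d, hdE, rfl⟩ := hr
  obtain ⟨c, hc⟩ : ∃ c, K.B.π ⟨q, hq⟩ = p.ψ c := ⟨_, (p.ψ.apply_symm_apply _).symm⟩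
  have hsum := (p.psi_zero_iff hc).1 hxC
  obtain ⟨hd1, hd2⟩ := p.mk_C (c := d) hrC
  set u := p.w * (QuotientGroup.mk d : (Cz z) ⧸ Q) * p.w⁻¹ with hu
  have huE : u ∈ p.E1 := ⟨⟨_, hdE, rfl⟩, K.B.D.conj_mem_Mb _ hd2⟩
  obtain ⟨a, ha⟩ := perp_trivial K.F p.E1 (fun e he => K.B.D.central e (p.mem_E1 he).2)
    (fun e he => p.E1_fix he)
    (fun e he => by
      have h := p.big.sq _ (p.mem_E1 he).1
      calc e * e = p.w * (p.w⁻¹ * e * p.w * (p.w⁻¹ * e * p.w)) * p.w⁻¹ := by group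
        _ = 1 := by rw [h]; group)
    (fun a ha b hb => by
      have h := p.big.comm (p.mem_E1 ha).1 (p.mem_E1 hb).1
      calc a * b = p.w * (p.w⁻¹ * a * p.w * (p.w⁻¹ * b * p.w)) * p.w⁻¹ := by group
        _ = _ := by rw [h]; group)
    (fun π hπ e he => by
      obtain ⟨v, hvM, hv⟩ := exists_perm (K := K) hπ
      refine ⟨v⁻¹ * e * v, ⟨⟨p.w⁻¹ * (v⁻¹ * e * v) * p.w, ?_, by simp [mul_assoc]⟩,
        Subgroup.mul_mem _ (Subgroup.mul_mem _ (Subgroup.inv_mem _ hvM) (p.mem_E1 he).2) hvM⟩, fun c' => ?_⟩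
      · have hfix := p.conj_fix (u := v) (by rw [hv, permC_one6])
        have h := p.big.conj _ (inv_mem (show p.w⁻¹ * v * p.w ∈ MulAction.stabilizer _ (K.B.π p.s) from hfix))
          _ (p.mem_E1 he).1
        show p.w⁻¹ * (v⁻¹ * e * v) * p.w ∈ p.E
        rwa [show p.w⁻¹ * (v⁻¹ * e * v) * p.w = (p.w⁻¹ * v * p.w)⁻¹ * (p.w⁻¹ * e * p.w) * (p.w⁻¹ * v * p.w)⁻¹⁻¹ by
          group]
      · rw [← hv c', ← hv (coordAct _ _ c'), ← coordAct_mul, ← coordAct_mul]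
        congr 1
        group) u huE c hsum
  have hmk : (QuotientGroup.mk d : (Cz z) ⧸ Q) = p.w⁻¹ * u * p.w := by rw [hu]; group
  have himg : (QuotientGroup.mk d : (Cz z) ⧸ Q) • K.B.π ⟨q, hq⟩ = K.B.π ⟨q, hq⟩ + p.ψ (a • one6) := by
    rw [hc, hmk, ← ψ_coordAct, ha, map_add]
  have hconj : d * q * d⁻¹ ∈ Q := Subgroup.Normal.conj_mem ‹Q.Normal› q hq d
  have hmem : d * q * d⁻¹ * q⁻¹ ∈ Q := mul_mem hconj (inv_mem hq)
  refine (p.mem_Vs_iff ⟨_, hmem⟩).2 ⟨a, ?_⟩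
  rw [show (⟨_, hmem⟩ : Q) = ⟨_, hconj⟩ * (⟨q, hq⟩ : Q)⁻¹ from rfl, K.B.π_mul, K.B.π_inv,
    ← K.B.π_conj d ⟨q, hq⟩ ⟨_, hconj⟩ rfl, himg, add_comm, ← add_assoc, K.B.D.two, zero_add]

/-- The same for the other extraspecial subgroup. -/
theorem comm_PC' {r x : G} (hr : r ∈ p.R0) (hx : x ∈ cj p.g (Ctx.P (Q := Q)) ⊓ p.C) :
    r * x * r⁻¹ * x⁻¹ ∈ p.Vs := by
  obtain ⟨g0, -, -, hg0L, hg0P⟩ := p.exists_swap
  have hx' : g0⁻¹ * x * g0 ∈ Ctx.P (Q := Q) ⊓ p.C := by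
    refine ⟨mem_cj.1 (hg0P.symm ▸ hx.1), ?_⟩
    simpa using p.conj_C (inv_mem hg0L) hx.2
  have hr' : g0⁻¹ * r * g0 ∈ p.R0 := by simpa using p.conj_R0 (inv_mem hg0L) hr
  have h := (Subgroup.mem_normalizer_iff.1 hg0L _).1 (p.comm_PC hr' hx')
  convert h using 1
  group

theorem comm_R0 {r x : G} (hr : r ∈ p.R0) (hx : x ∈ p.R0) : r * x * r⁻¹ * x⁻¹ ∈ p.Vs := by
  obtain ⟨a, ha, b, hb, rfl⟩ := p.R0_decomp hx
  have h1 := p.comm_PC hr hb
  have h2 := p.comm_PC' hr ha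
  have hcomm : Commute a (r * b * r⁻¹ * b⁻¹) := (Subgroup.mem_centralizer_iff.1 ha.2 _ h1).symm
  have e : r * (a * b) * r⁻¹ * (a * b)⁻¹ = (r * a * r⁻¹ * a⁻¹) * (r * b * r⁻¹ * b⁻¹) := by
    calc _ = (r * a * r⁻¹ * a⁻¹) * (a * (r * b * r⁻¹ * b⁻¹) * a⁻¹) := by group
      _ = _ := by rw [hcomm.eq, mul_inv_cancel_right]
  rw [e]
  exact mul_mem h2 h1

theorem sq_R0 {x : G} (hx : x ∈ p.R0) : x * x ∈ p.Vs := by
  obtain ⟨a, ha, b, hb, rfl⟩ := p.R0_decomp hx
  have haR : a ∈ p.R0 := by simpa using mul_mem hx (inv_mem (p.PC_le_R0 hb))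
  have ha2 : a * a ∈ p.Vs := by
    rcases p.es'.sq_cases ha.1 with e | e <;> rw [e]
    exacts [one_mem _, p.s_Vs]
  have hb2 : b * b ∈ p.Vs := by
    rcases K.es.sq_cases hb.1 with e | e <;> rw [e]
    exacts [one_mem _, p.z_Vs]
  have hk := p.comm_R0 (p.PC_le_R0 hb) haR
  have hcomm : Commute a (b * a * b⁻¹ * a⁻¹) := (Subgroup.mem_centralizer_iff.1 ha.2 _ hk).symm
  have e : a * b * (a * b) = (b * a * b⁻¹ * a⁻¹) * (a * a) * (b * b) := by
    calc a * b * (a * b) = a * (b * a * b⁻¹ * a⁻¹) * a * (b * b) := by group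
      _ = _ := by rw [hcomm.eq]; group
  rw [e]
  exact mul_mem (mul_mem hk ha2) hb2

theorem center_R0 {x : G} (hx : x ∈ p.R0) (hc : ∀ r ∈ p.R0, Commute r x) : x ∈ p.Vs := by
  obtain ⟨hxC, d, hdE, rfl⟩ := hx
  obtain ⟨hd1, hd2⟩ := p.mk_C (c := d) hxC
  set u := p.w * (QuotientGroup.mk d : (Cz z) ⧸ Q) * p.w⁻¹ with hu
  have huE : u ∈ p.E1 := ⟨⟨_, hdE, rfl⟩, K.B.D.conj_mem_Mb _ hd2⟩
  have hlin : u * K.B.D.h = K.B.D.h * u := K.B.D.central u (p.mem_E1 huE).2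
  have hmk : (QuotientGroup.mk d : (Cz z) ⧸ Q) = p.w⁻¹ * u * p.w := by rw [hu]; group
  have hfix : ∀ c : V6, ∑ i, c i = 0 → coordAct K.F.toFrame u c = c := by
    intro c hs
    obtain ⟨y, hy⟩ := K.B.π_surj (p.ψ c)
    have hyR := p.PC_le_R0 ⟨⟨_, y.2, rfl⟩, (p.psi_zero_iff hy).2 hs⟩
    have h : (QuotientGroup.mk d : (Cz z) ⧸ Q) • K.B.π y = K.B.π y := K.B.π_conj d y y (Subtype.ext (by
      show ((y : Cz z) : G) = (d : G) * ((y : Cz z) : G) * (d : G)⁻¹
      have h : ((y : Cz z) : G) * (d : G) = (d : G) * ((y : Cz z) : G) := (hc _ hyR).eq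
      rw [← h, mul_inv_cancel_right]))
    apply p.ψ.injective
    rw [ψ_coordAct, ← hmk, ← hy, h]
  have h1 : coordAct K.F.toFrame u one6 = one6 := p.E1_fix huE
  -- the first unit vector moves by the vector itself at most
  set f := coordAct K.F.toFrame u with hf
  have hd : ∀ c : V6, ∑ i, c i = 0 →
      Cfsg.hermForm 6 K4 2 (f (un 0) + un 0) c = 0 := fun c hs => by
    rw [Lib.Unitary.herm_add_left]
    have h := coordAct_herm_lin K.F hlin (un 0) c
    rw [← hf, hfix c hs] at h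
    rw [h, k4_self]
  set δ := f (un 0) + un 0 with hδ
  have hδc : ∀ i, δ i = δ 0 := by
    intro i
    rcases eq_or_ne i 0 with rfl | hi
    · rfl
    have h := hd (un 0 + un i) (by simp [un, Finset.sum_add_distrib, k4_self])
    rw [Lib.Unitary.herm_add_right _ _ _ cardK4, herm_un, herm_un] at h
    exact (eq_of_add _ _ h).symm
  have hf0 : f (un 0) = un 0 + δ 0 • one6 := by
    funext i
    simp only [Pi.add_apply, Pi.smul_apply, smul_eq_mul, one6, mul_one]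
    rw [← hδc i, hδ, Pi.add_apply]
    generalize f (un 0) i = a, (un 0 : V6) i = b
    revert a b
    decide +kernel
  have hδ01 : δ 0 = 0 ∨ δ 0 = 1 := by
    have h := coordAct_herm_lin K.F hlin (un 0) (un 0)
    rw [← hf, hf0, herm6_add] at h
    have h6 : Cfsg.hermForm 6 K4 2 (δ 0 • one6) (δ 0 • one6) = 0 := by
      generalize δ 0 = a
      revert a
      decide +kernel
    have hcr : Cfsg.hermForm 6 K4 2 (un 0) (δ 0 • one6) = δ 0 * δ 0 := by
      rw [herm_un_left]; simp [one6]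
    rw [h6, hcr, add_zero, herm_un] at h
    revert h
    simp only [un, Pi.single_eq_same]
    generalize δ 0 = a
    revert a
    decide +kernel
  have hu1 : u = 1 := eq_one_of_shape K.F hlin h1 fun c hcc => by
    rcases hcc with ⟨i, hi, rfl⟩ | rfl
    · exact Or.inl (hfix _ (by simp [un, Finset.sum_add_distrib, k4_self]))
    · rw [← hf, show f (un 0 + K4.w • one6) = f (un 0) + f (K4.w • one6) from coordAct_add _ _ _ _,
        show f (K4.w • one6) = K4.w • f one6 from coordAct_lin K.F hlin _ _, h1, hf0]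
      rcases hδ01 with e | e <;> rw [e]
      · exact Or.inl (by rw [zero_smul, add_zero])
      · exact Or.inr (by rw [one_smul, add_right_comm])
  have hdQ : d ∈ Q := (QuotientGroup.eq_one_iff d).1 (by rw [hmk, hu1]; group)
  -- double centraliser inside `Q`
  set U : Subgroup G := Ctx.P (Q := Q) ⊓ p.C with hU
  have hzU : z ∈ U := ⟨K.es.mem, Subgroup.mem_centralizer_iff.2 fun v hv =>
    (K.es.comm v (p.Vs_le hv).1).eq⟩
  have h := Cfsg.Agent.Lib.FischerLarge45.card_centralizer_mul K.es U inf_le_left hzU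
  rw [show Nat.card U = 2 ^ 11 from p.card_CP, K.cardP] at h
  have hVle : p.Vs ≤ Ctx.P (Q := Q) ⊓ Subgroup.centralizer (U : Set G) := fun v hv =>
    ⟨(p.Vs_le hv).1, Subgroup.mem_centralizer_iff.2 fun y hy => (Subgroup.mem_centralizer_iff.1 hy.2 v hv).symm⟩
  have heq := Subgroup.eq_of_le_of_card_ge hVle (by rw [p.card_Vs]; omega)
  rw [heq]
  exact ⟨⟨d, hdQ, rfl⟩, Subgroup.mem_centralizer_iff.2 fun y hy => (hc y (p.PC_le_R0 hy)).eq⟩

theorem commutator_R0 {v : G} (hv : v ∈ p.Vs) :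
    ∀ hvR : v ∈ p.R0, (⟨v, hvR⟩ : p.R0) ∈ commutator p.R0 := by
  -- the involution `z` is a commutator
  obtain ⟨a, ha, b, hb, hab⟩ : ∃ a ∈ Ctx.P (Q := Q) ⊓ p.C, ∃ b ∈ Ctx.P (Q := Q) ⊓ p.C, a * b * a⁻¹ * b⁻¹ = z := by
    by_contra hn
    push Not at hn
    set U : Subgroup G := Ctx.P (Q := Q) ⊓ p.C with hU
    have hzU : z ∈ U := ⟨K.es.mem, Subgroup.mem_centralizer_iff.2 fun v hv =>
      (K.es.comm v (p.Vs_le hv).1).eq⟩
    have hle : U ≤ Ctx.P (Q := Q) ⊓ Subgroup.centralizer (U : Set G) := fun x hx =>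
      ⟨hx.1, Subgroup.mem_centralizer_iff.2 fun y hy => by
        rcases K.es.conj y hy.1 x hx.1 with e | e
        · exact mul_inv_eq_iff_eq_mul.1 e
        · exact absurd (by rw [e, (K.es.comm x hx.1).eq, mul_inv_cancel_right]) (hn y hy x hx)⟩
    have h := Cfsg.Agent.Lib.FischerLarge45.card_centralizer_mul K.es U inf_le_left hzU
    have hc := Subgroup.card_le_of_le hle
    rw [show Nat.card U = 2 ^ 11 from p.card_CP, K.cardP] at h
    rw [show Nat.card U = 2 ^ 11 from p.card_CP] at hc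
    omega
  intro hvR
  rcases eq_or_ne v 1 with rfl | hv1
  · exact one_mem _
  obtain ⟨l, hl, hlv⟩ := p.transitive hv hv1
  have haR := p.conj_R0 hl (p.PC_le_R0 ha)
  have hbR := p.conj_R0 hl (p.PC_le_R0 hb)
  have e : ⁅(⟨_, haR⟩ : p.R0), (⟨_, hbR⟩ : p.R0)⁆ = ⟨v, hvR⟩ := Subtype.ext (by
    show (l * a * l⁻¹) * (l * b * l⁻¹) * (l * a * l⁻¹)⁻¹ * (l * b * l⁻¹)⁻¹ = v
    rw [← hlv, ← hab]
    group)
  exact e ▸ Subgroup.commutator_mem_commutator (Subgroup.mem_top _) (Subgroup.mem_top _)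

theorem center_eq : (Subgroup.center p.R0).map p.R0.subtype = p.Vs := by
  ext x
  constructor
  · rintro ⟨y, hy, rfl⟩
    exact p.center_R0 y.2 fun r hr => congrArg Subtype.val (Subgroup.mem_center_iff.1 hy ⟨r, hr⟩)
  · intro hx
    exact ⟨⟨x, p.Vs_le_R0 hx⟩, Subgroup.mem_center_iff.2 fun r =>
      Subtype.ext (Subgroup.mem_centralizer_iff.1 r.2.1 x hx).symm, rfl⟩

theorem mem_center_R0 {y : p.R0} : y ∈ Subgroup.center p.R0 ↔ (y : G) ∈ p.Vs := by
  rw [← p.center_eq]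
  exact ⟨fun h => ⟨y, h, rfl⟩, fun ⟨y', h, e⟩ => (show y' = y from Subtype.ext e) ▸ h⟩

theorem special : Cfsg.IsSpecial 2 p.R0 := by
  haveI : Fact (Nat.Prime 2) := ⟨Nat.prime_two⟩
  have hder : commutator p.R0 = Subgroup.center p.R0 := by
    refine le_antisymm (Subgroup.commutator_le.2 fun x _ y _ => p.mem_center_R0.2 (p.comm_R0 x.2 y.2))
      fun x hx => ?_
    exact p.commutator_R0 (p.mem_center_R0.1 hx) x.2
  refine ⟨p.isPGroup_R0, le_antisymm
    (PGroups.frattini_le_of_pow_commutator (p := 2) _ (fun x => p.mem_center_R0.2 ?_) hder.le) ?_, hder⟩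
  · rw [SubmonoidClass.coe_pow, sq]
    exact p.sq_R0 x.2
  · rw [← hder]
    exact PGroups.commutator_le_frattini p.isPGroup_R0

theorem R0_le_L : p.R0 ≤ p.L := inf_le_left.trans p.C_le_L

theorem pCore_eq : (Cfsg.pCore 2 p.L).map p.L.subtype = p.R0 := by
  haveI : Fact (Nat.Prime 2) := ⟨Nat.prime_two⟩
  obtain ⟨φ, hφ, hker⟩ := p.exists_action'
  haveI := simple_SL32
  refine le_antisymm ?_ ?_
  · have hp : IsPGroup 2 (Cfsg.pCore 2 p.L) := PSolvable.isPGroup_pCore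
    haveI hn : (Cfsg.pCore 2 p.L).Normal := by
      haveI : (Cfsg.pCore 2 p.L).Characteristic :=
        Subgroup.characteristic_iff_map_eq.2 fun e => Cores.map_pCore_equiv e
      infer_instance
    have hbot := eq_bot_of_simple (Or.inl card_SL32) _ (Subgroup.Normal.map hn φ hφ) (hp.map φ)
    refine p.le_R0 ?_ ?_ (hp.map _)
    · rintro _ ⟨l, hl, rfl⟩
      refine (hker l).1 ?_
      rw [← Subgroup.mem_bot, ← hbot]
      exact ⟨l, hl, rfl⟩
    · rintro c hc _ ⟨l, hl, rfl⟩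
      exact ⟨⟨c, p.C_le_L hc⟩ * l * ⟨c, p.C_le_L hc⟩⁻¹, hn.conj_mem l hl _, rfl⟩
  · intro x hx
    refine ⟨⟨x, p.R0_le_L hx⟩, ?_, rfl⟩
    exact PSolvable.le_pCore (N := p.R0.subgroupOf p.L) ⟨fun r hr l => p.conj_R0 l.2 hr⟩
      p.isPGroup_R0.comap_subtype hx

theorem quotient_equiv : ∃ _ : (p.R0.subgroupOf p.L).Normal,
    Nonempty (p.L ⧸ p.R0.subgroupOf p.L ≃* SL32 × alternatingGroup (Fin 6)) := by
  obtain ⟨φ, hφ, hker⟩ := p.exists_action'
  obtain ⟨χ, hχ, hχker, -⟩ := p.exists_quot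
  haveI hn : (p.R0.subgroupOf p.L).Normal := ⟨fun r hr l => p.conj_R0 l.2 hr⟩
  refine ⟨hn, ?_⟩
  haveI := simple_SL32
  set mk := QuotientGroup.mk' (p.R0.subgroupOf p.L) with hmk
  have hle : p.R0.subgroupOf p.L ≤ φ.ker := fun r hr => (hker r).2 (Subgroup.mem_subgroupOf.1 hr).1
  let φb := QuotientGroup.lift _ φ hle
  have hφb : Function.Surjective φb := fun y => by
    obtain ⟨l, rfl⟩ := hφ y
    exact ⟨mk l, rfl⟩
  let A := φb.ker
  have hA : ∀ l, mk l ∈ A ↔ (l : G) ∈ p.C := fun l => hker l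
  -- the kernel is the alternating group
  let ι : p.C →* A := (mk.comp (Subgroup.inclusion p.C_le_L)).codRestrict A fun c => (hA _).2 c.2
  have hιs : Function.Surjective ι := fun a => by
    obtain ⟨l, hl⟩ := QuotientGroup.mk'_surjective _ a.1
    exact ⟨⟨l, (hA l).1 (hl.symm ▸ a.2)⟩, Subtype.ext hl⟩
  have hιk : ι.ker = χ.ker := by
    ext c
    rw [MonoidHom.mem_ker, MonoidHom.mem_ker, hχker]
    exact ⟨fun h => (QuotientGroup.eq_one_iff (Subgroup.inclusion p.C_le_L c)).1 (congrArg Subtype.val h),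
      fun h => Subtype.ext ((QuotientGroup.eq_one_iff (Subgroup.inclusion p.C_le_L c)).2 h)⟩
  let eA : A ≃* alternatingGroup (Fin 6) :=
    ((QuotientGroup.quotientKerEquivOfSurjective ι hιs).symm.trans (QuotientGroup.quotientMulEquivOfEq hιk)).trans
      (QuotientGroup.quotientKerEquivOfSurjective χ hχ)
  -- its centraliser covers the other factor
  let Kc := Subgroup.centralizer (A : Set (p.L ⧸ p.R0.subgroupOf p.L))
  haveI : A.Normal := inferInstanceAs φb.ker.Normal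
  haveI : Kc.Normal := ⟨fun k hk g => Subgroup.mem_centralizer_iff.2 fun a ha => by
    have h := Subgroup.mem_centralizer_iff.1 hk _ (Subgroup.Normal.conj_mem ‹A.Normal› a ha g⁻¹)
    calc a * (g * k * g⁻¹) = g * ((g⁻¹ * a * g⁻¹⁻¹) * k) * g⁻¹ := by group
      _ = g * (k * (g⁻¹ * a * g⁻¹⁻¹)) * g⁻¹ := by rw [h]
      _ = g * k * g⁻¹ * a := by group⟩
  have hKA : Kc ⊓ A = ⊥ := by
    rw [Subgroup.eq_bot_iff_forall]
    rintro a ⟨haK, haA⟩
    have hcen : eA ⟨a, haA⟩ ∈ Subgroup.center (alternatingGroup (Fin 6)) := Subgroup.mem_center_iff.2 fun b => by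
      obtain ⟨b', rfl⟩ := eA.surjective b
      rw [← map_mul, ← map_mul]
      exact congrArg _ (Subtype.ext (Subgroup.mem_centralizer_iff.1 haK _ b'.2))
    haveI : IsSimpleGroup (alternatingGroup (Fin 6)) := alternatingGroup.isSimpleGroup (by simp)
    rcases IsSimpleGroup.eq_bot_or_eq_top_of_normal (Subgroup.center (alternatingGroup (Fin 6)))
        inferInstance with h | h
    · rw [h, Subgroup.mem_bot] at hcen
      exact congrArg Subtype.val ((MulEquiv.map_eq_one_iff eA).1 hcen)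
    · exfalso
      obtain ⟨a, c, hac⟩ := K.B.D.not_comm_alt
      exact hac (Subgroup.mem_center_iff.1 (h ▸ Subgroup.mem_top c) a)
  obtain ⟨q, hq, hqs⟩ := K.es.exists_conj_ne p.sP p.s_ne_one p.hs
  have hqK : mk ⟨q, p.P_le_L hq⟩ ∈ Kc := by
    rw [Subgroup.mem_centralizer_iff]
    intro a ha
    obtain ⟨l, rfl⟩ := QuotientGroup.mk'_surjective _ a
    have hlC := (hA l).1 ha
    rw [← map_mul, ← map_mul]
    refine (QuotientGroup.eq (s := p.R0.subgroupOf p.L)).2 (Subgroup.mem_subgroupOf.2 ?_)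
    obtain ⟨q', hq', rfl⟩ := hq
    show ((l : G) * (q' : G))⁻¹ * ((q' : G) * (l : G)) ∈ p.R0
    refine p.PC_le_R0 ⟨?_, ?_⟩
    · let l' : Cz z := ⟨l, p.C_le hlC⟩
      exact ⟨(l' * q')⁻¹ * (q' * l'), by
        rw [mul_inv_rev, show q'⁻¹ * l'⁻¹ * (q' * l') = q'⁻¹ * (l'⁻¹ * q' * (l'⁻¹)⁻¹) by group]
        exact mul_mem (inv_mem hq') (Subgroup.Normal.conj_mem ‹Q.Normal› q' hq' l'⁻¹), rfl⟩
    · rw [show ((l : G) * (q' : G))⁻¹ * ((q' : G) * (l : G)) =
        (q' : G)⁻¹ * (l : G)⁻¹ * ((q' : G)⁻¹)⁻¹ * (l : G) by group]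
      exact mul_mem (p.conj_C (inv_mem (p.P_le_L ⟨q', hq', rfl⟩)) (inv_mem hlC)) hlC
  have hKtop : Kc.map φb = ⊤ := by
    refine (IsSimpleGroup.eq_bot_or_eq_top_of_normal _ (Subgroup.Normal.map inferInstance φb hφb)).resolve_left
      fun h => ?_
    have h1 : φb (mk ⟨q, p.P_le_L hq⟩) ∈ Kc.map φb := ⟨_, hqK, rfl⟩
    rw [h, Subgroup.mem_bot] at h1
    have h2 := Subgroup.mem_centralizer_iff.1 ((hker ⟨q, p.P_le_L hq⟩).1 h1) _ p.s_Vs
    rw [show q * p.sG * q⁻¹ = p.sG by rw [← h2, mul_inv_cancel_right]] at hqs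
    exact K.es.ne (by simpa using hqs)
  let f : Kc × A →* p.L ⧸ p.R0.subgroupOf p.L := MonoidHom.noncommCoprod Kc.subtype A.subtype
    fun k a => (Subgroup.mem_centralizer_iff.1 k.2 a.1 a.2).symm
  have hfi : Function.Injective f := by
    rw [injective_iff_map_eq_one]
    rintro ⟨k, a⟩ h
    have h' : (k : p.L ⧸ p.R0.subgroupOf p.L) * a = 1 := h
    have hk : (k : p.L ⧸ p.R0.subgroupOf p.L) ∈ Kc ⊓ A :=
      ⟨k.2, by rw [eq_inv_of_mul_eq_one_left h']; exact Subgroup.inv_mem _ a.2⟩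
    rw [hKA, Subgroup.mem_bot] at hk
    rw [hk, one_mul] at h'
    exact Prod.ext (Subtype.ext hk) (Subtype.ext h')
  have hfs : Function.Surjective f := fun x => by
    obtain ⟨k, hk, hkx⟩ : φb x ∈ Kc.map φb := hKtop ▸ Subgroup.mem_top _
    refine ⟨(⟨k, hk⟩, ⟨k⁻¹ * x, ?_⟩), mul_inv_cancel_left k x⟩
    show φb (k⁻¹ * x) = 1
    rw [map_mul, map_inv, hkx, inv_mul_cancel]
  let eK : Kc ≃* SL32 := MulEquiv.ofBijective (φb.comp Kc.subtype) ⟨by
      rw [injective_iff_map_eq_one]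
      intro k hk
      have : (k : p.L ⧸ p.R0.subgroupOf p.L) ∈ Kc ⊓ A := ⟨k.2, hk⟩
      rw [hKA, Subgroup.mem_bot] at this
      exact Subtype.ext this,
    fun y => by
      obtain ⟨k, hk, hky⟩ : y ∈ Kc.map φb := hKtop ▸ Subgroup.mem_top _
      exact ⟨⟨k, hk⟩, hky⟩⟩
  exact ⟨(MulEquiv.ofBijective f ⟨hfi, hfs⟩).symm.trans (eK.prodCongr eA)⟩

end Pr

end Cfsg.Agent.Lib.FischerLarge99
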