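import Cfsg.Agent.Lib.FischerLarge99.Conj
import Cfsg.Agent.Lib.FischerLarge99.Lagrangian

/-!
For a conjugate `s ≠ z` of `z` in `Q` the intersection of the two extraspecial subgroups has order `2^7`,
its image contains the line of the vector of `s`, and the preimage of that line is the subgroup of the
intersection fixed by all elements of odd order centralising `z` and `s`: hence symmetric in `z` and `s`.

Owner: helper99.
-/

set_option autoImplicit false
set_option linter.style.haveILetI false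
set_option linter.unusedSectionVars false

namespace Cfsg.Agent.Lib.FischerLarge99

open Cfsg.Agent.Lib.G24 Cfsg.Agent.Lib.LargeFischer13 Cfsg.Agent.Lib.LargeExtraspecial.Basic
open Cfsg.Agent.Lib.LargeFischer13.Model

universe u

variable {G : Type u} [Group G] [Finite G] {z : G} {Q : Subgroup (Cz z)} [Q.Normal]

/-- The standing data. -/
structure Ctx (z : G) (Q : Subgroup (Cz z)) [Q.Normal] where
  /-- The module. -/
  B : Bridge z Q
  /-- Coordinates. -/
  F : NFrame B.D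
  hz : orderOf z = 2
  hzQ : z ∈ Q.map (Cz z).subtype
  hQ : Nat.card Q = 2 ^ 13

/-- A conjugate of `z` in `Q`. -/
structure Pr (K : Ctx z Q) where
  /-- The element. -/
  s : Q
  /-- The conjugating element. -/
  g : G
  hg : g * z * g⁻¹ = ((s : Cz z) : G)
  hs : ((s : Cz z) : G) ≠ z

namespace Ctx

variable (K : Ctx z Q)

/-- The subgroup in the group. -/
abbrev P : Subgroup G := Q.map (Cz z).subtype

theorem es (K : Ctx z Q) : ES (Ctx.P (Q := Q)) z := es_map K.B K.hz K.hzQ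

theorem cardP (K : Ctx z Q) : Nat.card (Ctx.P (Q := Q)) = 2 ^ 13 := by
  rw [← Nat.card_congr (Subgroup.equivMapOfInjective Q _ (Cz z).subtype_injective).toEquiv, K.hQ]

/-- The element `z` of `Q`. -/
noncomputable def zq : Q := ⟨K.hzQ.choose, K.hzQ.choose_spec.1⟩

theorem zq_eq : ((K.zq : Cz z) : G) = z := K.hzQ.choose_spec.2

theorem π_zq : K.B.π K.zq = 0 := (K.B.π_zero _).2 (Or.inr K.zq_eq)

end Ctx

/-- An element commuting with a conjugate of `z` normalises its subgroup. -/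
theorem conj_mem_cj {g s c x : G} (hg : g * z * g⁻¹ = s) (hc : Commute c s)
    (hx : x ∈ cj g (Ctx.P (Q := Q))) : c * x * c⁻¹ ∈ cj g (Ctx.P (Q := Q)) := by
  rw [mem_cj] at hx ⊢
  obtain ⟨a, ha, hae⟩ := hx
  let d : Cz z := ⟨g⁻¹ * c * g, mem_centralizer_single.2 (by
    have hh := hc.map (MulAut.conj g⁻¹)
    rw [← hg] at hh
    simpa [mul_assoc] using hh)⟩
  refine ⟨d * a * d⁻¹, Subgroup.Normal.conj_mem ‹Q.Normal› a ha d, ?_⟩
  show g⁻¹ * c * g * (a : G) * (g⁻¹ * c * g)⁻¹ = _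
  rw [show (a : G) = g⁻¹ * x * g from hae]
  group

theorem eq_or_inv_of_cube {M : Type*} [Group M] {u : M} (hu : u * u * u = 1) {n : ℕ} (hn : ¬ 3 ∣ n) :
    u ^ n = u ∨ u ^ n = u⁻¹ := by
  have h3 : u ^ 3 = 1 := by rw [pow_succ, sq, hu]
  rw [← Nat.div_add_mod n 3, pow_add, pow_mul, h3, one_pow, one_mul]
  have : n % 3 = 1 ∨ n % 3 = 2 := by omega
  rcases this with e | e <;> rw [e]
  · exact Or.inl (pow_one u)
  · right
    rw [sq]
    exact (inv_eq_of_mul_eq_one_left hu).symm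

theorem commute_of_pow_odd {M : Type*} [Group M] {c x y : M} (hodd : Odd (orderOf c))
    (hx : c * x * c⁻¹ = x * y) (hy : Commute c y) (hy2 : y * y = 1) : Commute c x := by
  have h2 : Commute (c * c) x := by
    apply mul_inv_eq_iff_eq_mul.1
    calc c * c * x * (c * c)⁻¹ = c * (c * x * c⁻¹) * c⁻¹ := by group
      _ = c * (x * y) * c⁻¹ := by rw [hx]
      _ = (c * x * c⁻¹) * (c * y * c⁻¹) := by group
      _ = x * y * y := by rw [hx, hy.eq, mul_inv_cancel_right]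
      _ = x := by rw [mul_assoc, hy2, mul_one]
  obtain ⟨k, hk⟩ := hodd
  have e : c = (c * c) ^ (k + 1) := by
    rw [← sq, ← pow_mul, show 2 * (k + 1) = orderOf c + 1 by omega, pow_succ, pow_orderOf_eq_one, one_mul]
  rw [e]
  exact h2.pow_left _

namespace Pr

variable {K : Ctx z Q} (p : Pr K)

/-- The element in the group. -/
abbrev sG : G := ((p.s : Cz z) : G)

theorem sP : p.sG ∈ Ctx.P (Q := Q) := ⟨_, p.s.2, rfl⟩

theorem z_mem : z ∈ cj p.g (Ctx.P (Q := Q)) := z_mem_cj K.B K.hz K.hQ rfl K.es p.g p.hg p.sP p.hs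

theorem es' : ES (cj p.g (Ctx.P (Q := Q))) p.sG := by
  have h := es_cj K.es p.g
  rwa [p.hg] at h

theorem s_ne_one : p.sG ≠ 1 := by
  show ((p.s : Cz z) : G) ≠ 1
  rw [← p.hg]
  simp [K.es.ne]

/-- The intersection. -/
def D0 : Subgroup G := Ctx.P (Q := Q) ⊓ cj p.g (Ctx.P (Q := Q))

theorem D0_sq {x : G} (hx : x ∈ p.D0) : x * x = 1 := by
  rcases K.es.sq_cases hx.1 with e | e
  · exact e
  · rcases p.es'.sq_cases hx.2 with e' | e'
    · exact e'
    · exact absurd (e'.symm.trans e) p.hs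

theorem D0_comm {x y : G} (hx : x ∈ p.D0) (hy : y ∈ p.D0) : Commute x y :=
  commute_of_sq (U := p.D0) (fun _ h => p.D0_sq h) hx hy

theorem z_D0 : z ∈ p.D0 := ⟨K.es.mem, p.z_mem⟩

theorem s_D0 : p.sG ∈ p.D0 := ⟨p.sP, p.es'.mem⟩

/-- The image of the other extraspecial subgroup. -/
noncomputable abbrev E : Subgroup ((Cz z) ⧸ Q) := bigE (Q := Q) p.g

theorem mem_E {e : (Cz z) ⧸ Q} : e ∈ p.E ↔
    ∃ r : Cz z, (r : G) ∈ cj p.g (Ctx.P (Q := Q)) ∧ QuotientGroup.mk r = e :=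
  ⟨fun ⟨r, hr⟩ => ⟨⟨(r : G), r.2.2⟩, r.2.1, hr⟩, fun ⟨r, hr, he⟩ => ⟨⟨(r : G), hr, r.2⟩, he⟩⟩

theorem s_sing : K.B.π p.s ≠ 0 ∧ K.B.D.q (K.B.π p.s) = 0 :=
  K.B.sing (Subtype.ext (Subtype.ext (p.D0_sq p.s_D0)))
    (fun h => p.s_ne_one (by rw [sG, h]; rfl)) p.hs

theorem big : Big K.B.D (K.B.π p.s) p.E where
  ne := p.s_sing.1
  sing := p.s_sing.2
  le := (bigE_spec K.B K.hz K.hzQ K.hQ p.s p.g p.hg p.hs).1
  conj := (bigE_spec K.B K.hz K.hzQ K.hQ p.s p.g p.hg p.hs).2.1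
  sq e he := by
    obtain ⟨r, hr, rfl⟩ := p.mem_E.1 he
    rw [← QuotientGroup.mk_mul, QuotientGroup.eq_one_iff]
    rcases p.es'.sq_cases hr with e | e
    · rw [show r * r = 1 from Subtype.ext e]; exact one_mem _
    · rw [show r * r = (p.s : Cz z) from Subtype.ext e]; exact p.s.2
  card := by
    obtain ⟨-, -, hp, hb⟩ := bigE_spec K.B K.hz K.hzQ K.hQ p.s p.g p.hg p.hs
    obtain ⟨n, hn⟩ := IsPGroup.iff_card.1 hp
    rw [hn] at hb ⊢
    have h5 : 5 ≤ n := by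
      by_contra h
      have := Nat.pow_le_pow_right (show 0 < 2 by norm_num) (show n ≤ 4 by omega)
      omega
    exact le_trans (by norm_num) (Nat.pow_le_pow_right (show 0 < 2 by norm_num) h5)

theorem card_E : Nat.card p.E = 32 := (K.F.big_structure p.big).1

theorem card_D0 : Nat.card p.D0 = 2 ^ 7 := by
  have hle : Nat.card p.D0 ≤ 2 ^ 7 :=
    Cfsg.Agent.Lib.FischerLarge45.card_le_of_abelian K.es K.cardP p.D0 inf_le_left p.z_D0
      fun x hx => p.D0_sq hx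
  have hge : Nat.card (cj p.g (Ctx.P (Q := Q))) ≤
      2 * Nat.card (cj p.g (Ctx.P (Q := Q)) ⊓ Cz z : Subgroup G) := le_two_mul p.es' p.z_mem
  rw [← Nat.card_congr (Subgroup.equivMapOfInjective _ _ (MulAut.conj p.g).injective).toEquiv, K.cardP] at hge
  set R := cj p.g (Ctx.P (Q := Q)) ⊓ Cz z with hR
  let f : R →* (Cz z) ⧸ Q := (QuotientGroup.mk' Q).comp (Subgroup.inclusion inf_le_right)
  have e := Subgroup.card_eq_card_quotient_mul_card_subgroup f.ker
  rw [Nat.card_congr (QuotientGroup.quotientKerEquivRange f).toEquiv,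
    show Nat.card f.range = 32 from p.card_E] at e
  have hker : Nat.card f.ker ≤ Nat.card p.D0 := by
    refine Nat.card_le_card_of_injective
      (fun r => ⟨((r : R) : G), ⟨_, (QuotientGroup.eq_one_iff _).1 r.2, rfl⟩, (r : R).2.1⟩) fun a b hab =>
        Subtype.ext (Subtype.ext (Subtype.mk.inj hab))
  omega

/-- The image of the intersection. -/
def piD : AddSubgroup K.B.V where
  carrier := {v | ∃ x : Q, ((x : Cz z) : G) ∈ cj p.g (Ctx.P (Q := Q)) ∧ K.B.π x = v}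
  zero_mem' := ⟨1, one_mem _, K.B.π_one⟩
  add_mem' := fun ⟨x, hx, e⟩ ⟨y, hy, e'⟩ => ⟨x * y, mul_mem hx hy, by rw [K.B.π_mul, e, e']⟩
  neg_mem' := fun ⟨x, hx, e⟩ => ⟨x, hx, by rw [e]; exact (neg_eq_of_add_eq_zero_left (K.B.D.two _)).symm⟩

theorem pi_mem_piD (x : Q) : K.B.π x ∈ p.piD ↔ ((x : Cz z) : G) ∈ cj p.g (Ctx.P (Q := Q)) := by
  refine ⟨fun ⟨y, hy, e⟩ => ?_, fun h => ⟨x, h, rfl⟩⟩
  rcases K.B.fibre e with h | h
  · rwa [h]
  · rw [h]; exact mul_mem hy p.z_mem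

theorem q_piD {v : K.B.V} (hv : v ∈ p.piD) : K.B.D.q v = 0 := by
  obtain ⟨x, hx, rfl⟩ := hv
  exact (K.B.π_q x).2 (Subtype.ext (Subtype.ext (p.D0_sq ⟨⟨_, x.2, rfl⟩, hx⟩)))

theorem card_piD : Nat.card p.piD = 64 := by
  have hD : ∀ x : p.D0, ∃ y : Q, ((y : Cz z) : G) = x := fun x => by
    obtain ⟨a, ha, hax⟩ := x.2.1
    exact ⟨⟨a, ha⟩, hax⟩
  choose y hy using hD
  let f : p.D0 →* Multiplicative p.piD := MonoidHom.mk'
    (fun x => Multiplicative.ofAdd ⟨K.B.π (y x), y x, by rw [hy]; exact x.2.2, rfl⟩) fun a b => by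
      apply congrArg Multiplicative.ofAdd
      apply Subtype.ext
      show K.B.π (y (a * b)) = K.B.π (y a) + K.B.π (y b)
      rw [← K.B.π_mul]
      exact congrArg K.B.π (Subtype.ext (Subtype.ext (by
        show ((y (a * b) : Cz z) : G) = ((y a : Cz z) : G) * ((y b : Cz z) : G)
        rw [hy, hy, hy, Subgroup.coe_mul])))
  have hsurj : Function.Surjective f := fun v => by
    obtain ⟨x, hx, hv⟩ := v.toAdd.2
    refine ⟨⟨((x : Cz z) : G), Subgroup.mem_map_of_mem (Cz z).subtype x.2, hx⟩,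
      congrArg Multiplicative.ofAdd (Subtype.ext ?_)⟩
    exact (congrArg K.B.π (Subtype.ext (Subtype.ext (hy _)))).trans hv
  have hker : ∀ x : p.D0, x ∈ f.ker ↔ (x : G) = 1 ∨ (x : G) = z := fun x => by
    have h : x ∈ f.ker ↔ K.B.π (y x) = 0 := by
      rw [MonoidHom.mem_ker]
      exact ⟨fun h => congrArg (fun v : Multiplicative p.piD => (v.toAdd : K.B.V)) h,
        fun h => congrArg Multiplicative.ofAdd (Subtype.ext h)⟩
    rw [h, K.B.π_zero, ← hy x]
    exact or_congr ⟨fun e => by rw [e]; rfl, fun e => Subtype.ext (Subtype.ext e)⟩ Iff.rfl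
  have h2 : Nat.card f.ker = 2 := by
    rw [Nat.card_eq_two_iff]
    refine ⟨1, ⟨⟨z, p.z_D0⟩, (hker _).2 (Or.inr rfl)⟩, fun e => K.es.ne ?_, Set.eq_univ_of_forall fun x => ?_⟩
    · exact (congrArg (fun a : f.ker => ((a : p.D0) : G)) e).symm
    · rcases (hker x).1 x.2 with e | e
      · exact Or.inl (Subtype.ext (Subtype.ext e))
      · exact Or.inr (Subtype.ext (Subtype.ext e))
  have e := Subgroup.card_eq_card_quotient_mul_card_subgroup f.ker
  rw [Nat.card_congr (QuotientGroup.quotientKerEquivOfSurjective f hsurj).toEquiv, h2, p.card_D0,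
    Nat.card_congr Multiplicative.toAdd] at e
  omega

theorem smul_piD {w : (Cz z) ⧸ Q} (hw : w • K.B.π p.s = K.B.π p.s) {v : K.B.V} (hv : v ∈ p.piD) :
    w • v ∈ p.piD := by
  obtain ⟨c, hc, hcs⟩ := exists_lift K.B K.hz K.hzQ p.s p.g p.hg p.hs hw
  obtain ⟨x, hx, rfl⟩ := hv
  refine ⟨⟨c * x * c⁻¹, Subgroup.Normal.conj_mem ‹Q.Normal› x x.2 c⟩, conj_mem_cj p.hg hcs hx, ?_⟩
  rw [← hc]
  exact (K.B.π_conj c x _ rfl).symm

theorem E_moves {e : (Cz z) ⧸ Q} (he : e ∈ p.E) {v : K.B.V} (hv : v ∈ p.piD) :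
    e • v = v ∨ e • v = v + K.B.π p.s := by
  obtain ⟨r, hr, rfl⟩ := p.mem_E.1 he
  obtain ⟨x, hx, rfl⟩ := hv
  have hy : r * x * r⁻¹ ∈ Q := Subgroup.Normal.conj_mem ‹Q.Normal› x x.2 r
  rw [K.B.π_conj r x ⟨_, hy⟩ rfl]
  rcases p.es'.conj _ hr _ hx with e | e
  · exact Or.inl (congrArg K.B.π (Subtype.ext (Subtype.ext e)))
  · right
    rw [← K.B.π_mul]
    exact congrArg K.B.π (Subtype.ext (Subtype.ext e))

theorem exists_chart : ∃ w : (Cz z) ⧸ Q, w • K.B.π p.s = coordEquiv K.F.toFrame one6 := by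
  obtain ⟨c, hc⟩ := K.F.exists_coord (K.B.π p.s)
  obtain ⟨w, hw⟩ := K.F.transR c ones (K.F.isR_of_big (hc.symm ▸ p.big)) Model.isR_ones
  exact ⟨w, by rw [coordEquiv_eq, toCoord_one6, ← hc]; exact hw⟩

/-- An element carrying the vector to the all-one vector. -/
noncomputable def w : (Cz z) ⧸ Q := p.exists_chart.choose

/-- Coordinates adapted to the pair. -/
noncomputable def ψ : V6 ≃+ K.B.V :=
  (coordEquiv K.F.toFrame).trans (DistribMulAction.toAddEquiv K.B.V (p.w⁻¹))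

theorem ψ_apply (c : V6) : p.ψ c = p.w⁻¹ • coordEquiv K.F.toFrame c := rfl

theorem ψ_one6 : p.ψ one6 = K.B.π p.s := by
  rw [ψ_apply, ← p.exists_chart.choose_spec, w, inv_smul_smul]

theorem ψ_coordAct (u : (Cz z) ⧸ Q) (c : V6) :
    p.ψ (coordAct K.F.toFrame u c) = (p.w⁻¹ * u * p.w) • p.ψ c := by
  rw [ψ_apply, ψ_apply, coordEquiv_coordAct, mul_smul, mul_smul, smul_inv_smul]

theorem conj_fix {u : (Cz z) ⧸ Q} (hu : coordAct K.F.toFrame u one6 = one6) :
    (p.w⁻¹ * u * p.w) • K.B.π p.s = K.B.π p.s := by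
  rw [← p.ψ_one6, ← ψ_coordAct, hu]

/-- A pure even permutation. -/
theorem exists_perm {π : Equiv.Perm (Fin 6)} (hπ : Equiv.Perm.sign π = 1) :
    ∃ u : (Cz z) ⧸ Q, u ∈ K.B.D.Mb ∧ ∀ c, coordAct K.F.toFrame u c = permC π c := by
  obtain ⟨u, hu, h⟩ := K.F.exists_pure π hπ
  refine ⟨u, K.B.D.P_le hu, fun c => (coordEquiv K.F.toFrame).injective ?_⟩
  rw [coordEquiv_coordAct, coordEquiv_eq, coordEquiv_eq,
    K.F.smul_vec_comm (K.B.D.central u (K.B.D.P_le hu)) h]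
  congr 1
  funext i
  simp [move, toCoord, permC]

/-- The preimage of the image in coordinates. -/
noncomputable def S : AddSubgroup V6 := p.piD.comap p.ψ.toAddMonoidHom

theorem mem_S {c : V6} : c ∈ p.S ↔ p.ψ c ∈ p.piD := Iff.rfl

/-- The big subgroup in coordinates, linear part. -/
noncomputable def E1 : Subgroup ((Cz z) ⧸ Q) :=
  p.E.map (MulAut.conj p.w).toMonoidHom ⊓ K.B.D.Mb

theorem mem_E1 {e : (Cz z) ⧸ Q} (he : e ∈ p.E1) : p.w⁻¹ * e * p.w ∈ p.E ∧ e ∈ K.B.D.Mb := by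
  obtain ⟨⟨a, ha, rfl⟩, hM⟩ := he
  exact ⟨by simpa [mul_assoc] using ha, hM⟩

theorem E1_fix {e : (Cz z) ⧸ Q} (he : e ∈ p.E1) : coordAct K.F.toFrame e one6 = one6 :=
  p.ψ.injective (by rw [ψ_coordAct, ψ_one6]; exact p.big.le (p.mem_E1 he).1)

theorem card_E1 : 16 ≤ Nat.card p.E1 := by
  set W' := p.E.map (MulAut.conj p.w).toMonoidHom with hW'
  have hW : Nat.card W' = 32 := by
    rw [hW', ← Nat.card_congr (Subgroup.equivMapOfInjective p.E _ (MulAut.conj p.w).injective).toEquiv,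
      p.card_E]
  have h1 := Subgroup.relIndex_mul_relIndex (⊥ : Subgroup _) p.E1 W' bot_le inf_le_left
  rw [Subgroup.relIndex_bot_left, Subgroup.relIndex_bot_left, hW] at h1
  have h3 : p.E1.relIndex W' ≤ 2 := by
    rw [E1, ← hW', inf_comm, Subgroup.inf_relIndex_right]
    exact (Nat.le_of_dvd (by rw [K.B.D.index]; norm_num)
      (@Subgroup.relIndex_dvd_index_of_normal _ _ K.B.D.Mb W' K.B.D.Mb_normal)).trans K.B.D.index.le
  nlinarith

theorem S_shape : K4.w • one6 ∈ p.S := by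
  have h1 : one6 ∈ p.S := by
    rw [mem_S, ψ_one6, pi_mem_piD]
    exact p.es'.mem
  have hperm : ∀ π, Equiv.Perm.sign π = 1 → ∀ c ∈ p.S, permC π c ∈ p.S := by
    intro π hπ c hc
    obtain ⟨u, -, hu⟩ := exists_perm (K := K) hπ
    rw [← hu, mem_S, ψ_coordAct]
    exact p.smul_piD (p.conj_fix (by rw [hu, permC_one6])) hc
  have hq : ∀ c ∈ p.S, Cfsg.hermForm 6 K4 2 c c = 0 := by
    intro c hc
    have h := p.q_piD (p.mem_S.1 hc)
    rw [ψ_apply, K.B.D.q_smul, coordEquiv_eq, K.F.q_eq] at h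
    rw [herm_self, h]
    rfl
  have hcard : Nat.card p.S = 64 := by
    rw [← p.card_piD]
    exact Nat.card_congr (p.ψ.toEquiv.subtypeEquiv fun c => Iff.rfl)
  rcases shape p.S h1 hperm hq hcard with h | ⟨hreal, hy⟩
  · exact h
  exfalso
  have h16 := p.card_E1
  have hbot : p.E1 = ⊥ := by
    rw [Subgroup.eq_bot_iff_forall]
    intro e he
    obtain ⟨heE, heM⟩ := p.mem_E1 he
    refine eq_one_of_shape K.F (K.B.D.central e heM) (p.E1_fix he) fun c hc => ?_
    have hcS : c ∈ p.S := by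
      rcases hc with ⟨i, hi, rfl⟩ | rfl
      exacts [hreal i hi, hy]
    rcases p.E_moves heE (p.mem_S.1 hcS) with h | h
    · exact Or.inl (p.ψ.injective (by rw [ψ_coordAct, h]))
    · exact Or.inr (p.ψ.injective (by rw [ψ_coordAct, h, map_add, ψ_one6]))
  rw [hbot, Subgroup.card_bot] at h16
  omega

theorem line_mem (a : K4) : p.ψ (a • one6) ∈ p.piD := by
  have h1 : one6 ∈ p.S := by
    rw [mem_S, ψ_one6, pi_mem_piD]
    exact p.es'.mem
  rw [← mem_S]
  rcases eq_wts a with rfl | rfl | rfl | rfl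
  · rw [zero_smul]; exact p.S.zero_mem
  · rwa [one_smul]
  · exact p.S_shape
  · rw [show K4.w * K4.w = K4.w + 1 from rfl, add_smul, one_smul]
    exact p.S.add_mem p.S_shape h1

/-- The preimage of the line in the group. -/
def Vs : Subgroup G :=
  (Ctx.P (Q := Q) ⊓ cj p.g (Ctx.P (Q := Q))) ⊓
    Subgroup.centralizer {c : G | Odd (orderOf c) ∧ Commute c z ∧ Commute c p.sG}

theorem three_fixed : ∀ i : Fin 6, i ≠ 0 → ∃ π : Equiv.Perm (Fin 6), Equiv.Perm.sign π = 1 ∧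
    π * π * π = 1 ∧ π 0 = i := by
  decide +kernel

theorem mem_Vs {x : G} : x ∈ p.Vs ↔
    ∃ y : Q, ((y : Cz z) : G) = x ∧ ∃ a : K4, K.B.π y = p.ψ (a • one6) := by
  constructor
  · rintro ⟨⟨hxP, hxg⟩, hxc⟩
    obtain ⟨a, ha, rfl⟩ := hxP
    refine ⟨⟨a, ha⟩, rfl, ?_⟩
    obtain ⟨c, hc⟩ : ∃ c, p.ψ c = K.B.π ⟨a, ha⟩ := ⟨_, p.ψ.apply_symm_apply _⟩
    refine ⟨c 0, ?_⟩
    rw [← hc]
    congr 1
    funext i
    simp only [Pi.smul_apply, smul_eq_mul, one6, mul_one]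
    rcases eq_or_ne i 0 with rfl | hi
    · rfl
    obtain ⟨π, hπ, hπ3, hπi⟩ := three_fixed i hi
    obtain ⟨u, huM, hu⟩ := exists_perm (K := K) hπ
    set t := p.w⁻¹ * u * p.w with ht
    obtain ⟨d, hd, hds⟩ := exists_lift K.B K.hz K.hzQ p.s p.g p.hg p.hs (p.conj_fix (by rw [hu, permC_one6]))
    rw [← ht] at hd
    obtain ⟨k, m, hm, hdo⟩ := Nat.exists_eq_two_pow_mul_odd (show orderOf d ≠ 0 from (orderOf_pos d).ne')
    have hodd : Odd (orderOf ((d : G) ^ 2 ^ k)) := by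
      rw [← SubgroupClass.coe_pow, Subgroup.orderOf_coe, orderOf_pow_of_dvd (by positivity) (hdo ▸ Dvd.intro m rfl),
        hdo, Nat.mul_div_cancel_left _ (by positivity)]
      exact hm
    have hcomm : Commute ((d : G) ^ 2 ^ k) (a : G) := hxc _
      ⟨hodd, (mem_centralizer_single.1 d.2).pow_left _, hds.pow_left _⟩
    have hfix : (t ^ 2 ^ k) • K.B.π ⟨a, ha⟩ = K.B.π ⟨a, ha⟩ := by
      rw [← hd, ← QuotientGroup.mk_pow]
      refine K.B.π_conj _ _ _ (Subtype.ext ?_)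
      show (a : G) = ((d ^ 2 ^ k : Cz z) : G) * (a : G) * ((d ^ 2 ^ k : Cz z) : G)⁻¹
      rw [SubgroupClass.coe_pow, hcomm.eq, mul_inv_cancel_right]
    have ht3 : t * t * t = 1 := by
      have e : coordAct K.F.toFrame (u * u * u) = id := by
        funext c'
        rw [coordAct_mul, coordAct_mul, hu, hu, hu]
        funext j
        exact congrArg c' (by
          have := congrArg (fun e : Equiv.Perm (Fin 6) => e⁻¹ j) hπ3
          simpa [mul_assoc] using this)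
      have hu3 : u * u * u = 1 := K.B.D.faithful _ fun v => by
        obtain ⟨c', rfl⟩ := (coordEquiv K.F.toFrame).surjective v
        rw [← coordEquiv_coordAct, e]; rfl
      calc t * t * t = p.w⁻¹ * (u * u * u) * p.w := by rw [ht]; group
        _ = 1 := by rw [hu3]; group
    have hfix' : t • p.ψ c = p.ψ c := by
      have h3 : ¬ 3 ∣ 2 ^ k := fun h => absurd (Nat.prime_three.dvd_of_dvd_pow h) (by norm_num)
      rcases eq_or_inv_of_cube ht3 h3 with e | e
      · rw [e] at hfix; rwa [hc]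
      · rw [e, inv_smul_eq_iff] at hfix; rw [hc]; exact hfix.symm
    rw [← ψ_coordAct, hu] at hfix'
    have := congrFun (p.ψ.injective hfix') i
    rw [permC, show π.symm i = 0 by rw [Equiv.symm_apply_eq, hπi]] at this
    exact this.symm
  · rintro ⟨y, rfl, a, hy⟩
    have hyg : ((y : Cz z) : G) ∈ cj p.g (Ctx.P (Q := Q)) := (p.pi_mem_piD y).1 (hy ▸ p.line_mem a)
    refine ⟨⟨⟨_, y.2, rfl⟩, hyg⟩, fun c ⟨hodd, hcz, hcs⟩ => ?_⟩
    let d : Cz z := ⟨c, mem_centralizer_single.2 hcz⟩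
    set t : (Cz z) ⧸ Q := QuotientGroup.mk d with ht
    have hts : t • K.B.π p.s = K.B.π p.s := K.B.π_conj d p.s p.s (Subtype.ext (by
      show p.sG = c * p.sG * c⁻¹
      rw [hcs.eq, mul_inv_cancel_right]))
    have htM : t ∈ K.B.D.Mb := K.B.D.mem_of_odd (by
      obtain ⟨j, hj⟩ := orderOf_map_dvd (QuotientGroup.mk' Q) d
      have hd' : Odd (orderOf d) := by rwa [← Subgroup.orderOf_coe]
      rw [hj] at hd'
      exact (Nat.odd_mul.1 hd').1)
    set t' := p.w * t * p.w⁻¹ with ht'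
    have ht'M : t' ∈ K.B.D.Mb := K.B.D.conj_mem_Mb _ htM
    have ht'e : t = p.w⁻¹ * t' * p.w := by rw [ht']; group
    have ht'1 : coordAct K.F.toFrame t' one6 = one6 := p.ψ.injective (by rw [ψ_coordAct, ← ht'e, ψ_one6, hts])
    have hfix : t • K.B.π y = K.B.π y := by
      rw [hy, ht'e, ← ψ_coordAct, coordAct_lin K.F (K.B.D.central t' ht'M), ht'1]
    have hconj : d * y * d⁻¹ ∈ Q := Subgroup.Normal.conj_mem ‹Q.Normal› y y.2 d
    have h := K.B.π_conj d y ⟨_, hconj⟩ rfl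
    rcases K.B.fibre (hfix.symm.trans h) with e | e
    · exact mul_inv_eq_iff_eq_mul.1 (congrArg (fun q : Q => ((q : Cz z) : G)) e)
    · exact (commute_of_pow_odd hodd (show c * ((y : Cz z) : G) * c⁻¹ = _ from e) hcz K.es.sq).eq

end Pr

end Cfsg.Agent.Lib.FischerLarge99
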