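import Cfsg.Agent.Lib.FischerLarge99.Coord
import Cfsg.Agent.Lib.OrthSixMinus.Aut

/-!
The stabiliser of a vector of the small orbit is `Aut SU(4, 2)`, provided no element centralising `h`
is the transposition of two lines.

Owner: helper99.
-/

set_option autoImplicit false
set_option linter.style.haveILetI false
set_option linter.unusedSectionVars false

namespace Cfsg.Agent.Lib.FischerLarge99

open Cfsg.Agent.Lib.G24 Cfsg.Agent.Lib.LargeFischer13
open Cfsg.Agent.Lib.LargeFischer13.Model

/-- The base vector. -/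
def v0 : V6 := ![1, 1, 0, 0, 0, 0]

/-- The section of the projection. -/
def sec (w : V4) : V6 := ![0, 0, w 0, w 1, w 2, w 3]

/-- The projection. -/
def prj (c : V6) : V4 := ![c 2, c 3, c 4, c 5]

theorem prj_sec (w : V4) : prj (sec w) = w := by
  funext i; fin_cases i <;> rfl

theorem sec_prj {c : V6} (h : c 0 = c 1) : sec (prj c) + c 0 • v0 = c := by
  funext i; fin_cases i <;> simp [sec, prj, v0, h]

theorem prj_add (c d : V6) : prj (c + d) = prj c + prj d := by
  funext i; fin_cases i <;> rfl

theorem prj_smul (a : K4) (c : V6) : prj (a • c) = a • prj c := by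
  funext i; fin_cases i <;> rfl

theorem prj_v0 : prj v0 = 0 := by
  funext i; fin_cases i <;> rfl

theorem sec_add (u w : V4) : sec (u + w) = sec u + sec w := by
  funext i; fin_cases i <;> simp [sec]

theorem sec_smul (a : K4) (w : V4) : sec (a • w) = a • sec w := by
  funext i; fin_cases i <;> simp [sec]

theorem herm_v0 (c : V6) : Cfsg.hermForm 6 K4 2 c v0 = c 0 + c 1 := by
  simp [Cfsg.hermForm, Fin.sum_univ_six, v0]

theorem herm_sec (u w : V4) : Cfsg.hermForm 6 K4 2 (sec u) (sec w) = Cfsg.hermForm 4 K4 2 u w := by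
  simp [Cfsg.hermForm, Fin.sum_univ_six, Fin.sum_univ_four, sec]

theorem herm_prj {c d : V6} (hc : c 0 = c 1) (hd : d 0 = d 1) :
    Cfsg.hermForm 4 K4 2 (prj c) (prj d) = Cfsg.hermForm 6 K4 2 c d := by
  have e : c 0 * d 0 ^ 2 + c 1 * d 1 ^ 2 = 0 := by
    rw [← hc, ← hd]
    generalize c 0 * d 0 ^ 2 = a
    revert a
    decide +kernel
  simp only [Cfsg.hermForm, Fin.sum_univ_six, Fin.sum_univ_four, prj]
  rw [e, zero_add]
  rfl

theorem eq_of_add : ∀ a b : K4, a + b = 0 → a = b := by decide +kernel

/-- The pair vector. -/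
def pairVec (j k : Fin 4) (c : K4) : V4 := fun i => if i = j then 1 else if i = k then c else 0

/-- A weight-two vector of the section. -/
def pairU : Fin 4 × Fin 4 × K4 → Bool := fun p =>
  bif decide (p.1 = p.2.1) || decide (p.2.2 = 0) then true
  else decide (wt (toCoord (sec (pairVec p.1 p.2.1 p.2.2))) = 2)

theorem pairU_all : ∀ p, pairU p = true := by decide +kernel

/-- A weight-four image. -/
def pairR : Fin 4 × Fin 4 × K4 × K4 × K4 → Bool := fun p =>
  bif decide (p.1 = p.2.1) || decide (p.2.2.1 = 0) || decide (p.2.2.2.1 = 0) || decide (p.2.2.2.2 = 0)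
  then true
  else decide (wt (toCoord (sec (p.2.2.2.1 • pairVec p.1 p.2.1 p.2.2.1) + p.2.2.2.2 • v0)) = 4)

theorem pairR_all : ∀ p, pairR p = true := by decide +kernel

theorem exists_coeff : ∀ a b : K4, a ≠ 0 → ∃ c : K4, c ≠ 0 ∧ a + c * b ≠ 0 := by decide +kernel

theorem first_cases : ∀ a b : K4, a + b = 1 → a * a ^ 2 + b * b ^ 2 = 1 → a = 1 ∧ b = 0 ∨ a = 0 ∧ b = 1 := by
  decide +kernel

/-- The vector of weight six and phase one. -/
def u6 : V6 := ![K4.w, 1, 1, 1, 1, 1]

theorem u6_U : wt (toCoord u6) = 6 ∧ phase (toCoord u6) = 1 := by decide +kernel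

/-- The two images of `u6`. -/
def u6Img (swap : Bool) (l : K4) : V6 := bif swap then ![1, K4.w, l, l, l, l] else ![K4.w, 1, l, l, l, l]

theorem u6_img : ∀ b, ∀ l : K4, l ≠ 0 → l ≠ 1 →
    wt (toCoord (u6Img b l)) = 6 ∧ phase (toCoord (u6Img b l)) ≠ 1 := by decide +kernel

variable {W : Type*} [Group W] [Finite W] {V : Type*} [AddCommGroup V] [Finite V]
  [DistribMulAction W V] {D : Core W V} (F : NFrame D)

/-- The stabiliser. -/
noncomputable def stab : Subgroup W := MulAction.stabilizer W (coordEquiv F.toFrame v0)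

theorem not_U_R {x : W} {c d : V6} (hc : IsU (toCoord c)) (hd : IsR (toCoord d))
    (h : coordAct F.toFrame x c = d) : False := by
  have e := coordEquiv_coordAct F.toFrame x c
  rw [h, coordEquiv_eq, coordEquiv_eq] at e
  exact F.sep _ _ hc hd x e.symm

variable {F}

theorem act_v0 (x : stab F) : coordAct F.toFrame x v0 = v0 :=
  (coordEquiv F.toFrame).injective (by rw [coordEquiv_coordAct]; exact x.2)

theorem coords_eq (x : stab F) {c : V6} (h : c 0 = c 1) :
    coordAct F.toFrame x c 0 = coordAct F.toFrame x c 1 := by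
  have e := coordAct_herm F.toFrame (x : W) c v0
  rw [act_v0, herm_v0, herm_v0, h, show c 1 + c 1 = 0 by generalize c 1 = a; revert a; decide +kernel,
    map_zero] at e
  exact eq_of_add _ _ e

theorem sec_eq (w : V4) : sec w 0 = sec w 1 := rfl

variable (F)

/-- The map on `v⊥ / v`. -/
noncomputable def quotMap (x : stab F) : V4 →+ V4 :=
  AddMonoidHom.mk' (fun w => prj (coordAct F.toFrame x (sec w))) fun u w => by
    rw [sec_add, coordAct_add, prj_add]

theorem quotMap_apply (x : stab F) (w : V4) : quotMap F x w = prj (coordAct F.toFrame x (sec w)) := rfl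

theorem quotMap_herm (x : stab F) (c d : V4) :
    Cfsg.hermForm 4 K4 2 (quotMap F x c) (quotMap F x d) = tau D (x : W) (Cfsg.hermForm 4 K4 2 c d) := by
  rw [quotMap_apply, quotMap_apply, herm_prj (coords_eq x (sec_eq c)) (coords_eq x (sec_eq d)),
    coordAct_herm, herm_sec]

theorem quotMap_injective (x : stab F) : Function.Injective (quotMap F x) := by
  rw [injective_iff_map_eq_zero]
  intro w hw
  refine Lib.Unitary.herm_nondeg_left (F := K4) (n := 4) (q := 2) cardK4 fun u => ?_
  have h := quotMap_herm F x w u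
  rw [hw, Lib.Unitary.herm_zero_left] at h
  exact (tau D (x : W)).injective (by rw [← h, map_zero])

/-- The semilinear isometry on `v⊥ / v`. -/
noncomputable def sml (x : stab F) : Sml where
  T := AddEquiv.ofBijective (quotMap F x) (Finite.injective_iff_bijective.1 (quotMap_injective F x))
  τ := tau D (x : W)
  smul a c := by
    show quotMap F x (a • c) = _ • quotMap F x c
    rw [quotMap_apply, quotMap_apply, sec_smul, coordAct_smul, prj_smul]
  herm := quotMap_herm F x

theorem sml_mul (x y : stab F) (c : V4) : (sml F (x * y)).T c = (sml F x).T ((sml F y).T c) := by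
  show quotMap F (x * y) c = quotMap F x (quotMap F y c)
  rw [quotMap_apply, Subgroup.coe_mul, coordAct_mul, quotMap_apply, quotMap_apply]
  conv_lhs => rw [← sec_prj (coords_eq y (sec_eq c))]
  rw [coordAct_add, coordAct_smul, act_v0, prj_add, prj_smul, prj_v0, smul_zero, add_zero]

/-- The action on `SU(4, 2)`. -/
noncomputable def stabHom : stab F →* MulAut S4 := autHom (sml F) (sml_mul F)

/-- No element centralising `h` is the transposition of the first two lines. -/
def NoSwap : Prop :=
  ∀ x : W, x * D.h = D.h * x → (∀ c : V6, coordAct F.toFrame x c = fun i => c (Equiv.swap 0 1 i)) → False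

theorem stabHom_injective (hodd : NoSwap F) : Function.Injective (stabHom F) := by
  rw [injective_iff_map_eq_one]
  intro x hx
  obtain ⟨hτ, l, hl0, hl⟩ := (sml F x).scalar fun A => by
    rw [← autHom_apply (sml F) (sml_mul F) x A]
    show stabHom F x A = A
    rw [hx]; rfl
  have hτ' : ∀ a, tau D (x : W) a = a := hτ
  have hlin : (x : W) * D.h = D.h * x := by
    by_contra hc
    have e := hτ' K4.w
    unfold tau at e
    rw [if_neg hc] at e
    exact absurd e (by decide +kernel)
  set f := coordAct F.toFrame (x : W) with hf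
  have hsm : ∀ (a : K4) c, f (a • c) = a • f c := fun a c => by rw [hf, coordAct_smul, hτ']
  have hT : ∀ w, prj (f (sec w)) = l • w := hl
  have hform : ∀ w, f (sec w) = sec (l • w) + f (sec w) 0 • v0 := fun w => by
    have e := sec_prj (coords_eq x (sec_eq w))
    rw [← hf, hT] at e
    exact e.symm
  -- the shears vanish
  have hμ : ∀ j : Fin 4, f (sec (Pi.single j 1)) 0 = 0 := by
    intro j
    by_contra hj
    obtain ⟨k, hjk⟩ : ∃ k, j ≠ k := exists_ne j |>.imp fun _ h => h.symm
    obtain ⟨c, hc, hsum⟩ := exists_coeff _ (f (sec (Pi.single k 1)) 0) hj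
    have hw : pairVec j k c = Pi.single j 1 + c • Pi.single k 1 := by
      funext i
      rcases eq_or_ne i j with rfl | hij
      · simp [pairVec, hjk]
      · rcases eq_or_ne i k with rfl | hik
        · simp [pairVec, hij]
        · simp [pairVec, hij, hik]
    have himg : f (sec (pairVec j k c)) =
        sec (l • pairVec j k c) + (f (sec (Pi.single j 1)) 0 + c * f (sec (Pi.single k 1)) 0) • v0 := by
      rw [hform (pairVec j k c)]
      congr 2
      rw [hw, sec_add, sec_smul, hf, coordAct_add, coordAct_smul, hτ']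
      rfl
    have h2 := pairU_all (j, k, c)
    have h4 := pairR_all (j, k, c, l, f (sec (Pi.single j 1)) 0 + c * f (sec (Pi.single k 1)) 0)
    simp only [pairU, pairR, hjk, hc, hl0, hsum, decide_false, Bool.or_self, cond_false,
      decide_eq_true_eq] at h2 h4
    exact not_U_R F (x := (x : W)) (Or.inl h2) (Or.inl h4) himg
  have hline : ∀ j : Fin 4, f (sec (Pi.single j 1)) = sec (l • Pi.single j 1) := fun j => by
    rw [hform, hμ, zero_smul, add_zero]
  -- the image of the first unit vector
  set e0 : V6 := ![1, 0, 0, 0, 0, 0] with he0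
  have hcross : ∀ j : Fin 4, prj (f e0) j = 0 := fun j => by
    have h := coordAct_herm F.toFrame (x : W) e0 (sec (Pi.single j 1))
    rw [← hf, hline, hτ'] at h
    fin_cases j <;>
      simp [Cfsg.hermForm, Fin.sum_univ_six, sec, e0, hl0] at h <;>
      simpa [prj] using h
  have hab : f e0 0 + f e0 1 = 1 := by
    have h := coordAct_herm F.toFrame (x : W) e0 v0
    rw [act_v0, herm_v0, herm_v0, hτ'] at h
    rw [hf, h]; simp [e0]
  have hnorm : f e0 0 * f e0 0 ^ 2 + f e0 1 * f e0 1 ^ 2 = 1 := by
    have h := coordAct_self F.toFrame (x : W) e0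
    rw [← hf] at h
    have z2 : f e0 2 = 0 := hcross 0
    have z3 : f e0 3 = 0 := hcross 1
    have z4 : f e0 4 = 0 := hcross 2
    have z5 : f e0 5 = 0 := hcross 3
    simpa [Cfsg.hermForm, Fin.sum_univ_six, z2, z3, z4, z5, e0] using h
  have hdec : ∀ c : V6, c = c 0 • e0 + c 1 • (v0 + e0) + (c 2 • sec (Pi.single 0 1) +
      c 3 • sec (Pi.single 1 1) + c 4 • sec (Pi.single 2 1) + c 5 • sec (Pi.single 3 1)) := by
    intro c
    funext i
    fin_cases i <;> simp [e0, v0, sec] <;> generalize c 1 = a <;> revert a <;> decide +kernel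
  have hlin' : ∀ c : V6, f c = c 0 • f e0 + c 1 • (v0 + f e0) + sec (l • prj c) := by
    intro c
    have e : sec (l • prj c) = c 2 • sec (l • Pi.single 0 1) + c 3 • sec (l • Pi.single 1 1) +
        c 4 • sec (l • Pi.single 2 1) + c 5 • sec (l • Pi.single 3 1) := by
      funext i
      fin_cases i <;> simp [prj, sec, mul_comm]
    conv_lhs => rw [hdec c]
    rw [e, ← hline, ← hline, ← hline, ← hline]
    simp only [hf, coordAct_add, coordAct_smul, hτ', act_v0]
  have he : ∀ b : Bool, f e0 0 = (bif b then 0 else 1) → f e0 1 = (bif b then 1 else 0) → ∀ c : V6,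
      f c = bif b then ![c 1, c 0, l * c 2, l * c 3, l * c 4, l * c 5]
        else ![c 0, c 1, l * c 2, l * c 3, l * c 4, l * c 5] := by
    intro b ha hb c
    have z2 : f e0 2 = 0 := hcross 0
    have z3 : f e0 3 = 0 := hcross 1
    have z4 : f e0 4 = 0 := hcross 2
    have z5 : f e0 5 = 0 := hcross 3
    have h11 : (1 : K4) + 1 = 0 := rfl
    have hv : f e0 = ![bif b then 0 else 1, bif b then 1 else 0, 0, 0, 0, 0] := by
      funext i
      fin_cases i <;> simp [ha, hb, z2, z3, z4, z5]
    rw [hlin' c, hv]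
    funext i
    cases b <;> fin_cases i <;>
      simp [v0, sec, prj, h11, Matrix.vecHead, Matrix.vecTail]
  have hl1 : ∀ b : Bool, f e0 0 = (bif b then 0 else 1) → f e0 1 = (bif b then 1 else 0) → l = 1 := by
    intro b ha hb
    by_contra hne
    obtain ⟨h6, hp⟩ := u6_img b l hl0 hne
    refine not_U_R F (x := (x : W)) (c := u6) (Or.inr u6_U) (Or.inr ⟨h6, hp⟩) ?_
    rw [← hf, he b ha hb u6]
    cases b <;> simp [u6, u6Img]
  rcases first_cases _ _ hab hnorm with ⟨ha, hb⟩ | ⟨ha, hb⟩
  · have hall : ∀ c, f c = c := fun c => by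
      rw [he false ha hb c, hl1 false ha hb]
      funext i
      fin_cases i <;> simp
    apply Subtype.ext
    refine D.faithful _ fun v => ?_
    obtain ⟨c, rfl⟩ := (coordEquiv F.toFrame).surjective v
    rw [← coordEquiv_coordAct, ← hf, hall]
  · refine (hodd x hlin fun c => ?_).elim
    rw [← hf, he true ha hb c, hl1 true ha hb]
    funext i
    fin_cases i <;> simp [Equiv.swap_apply_def]

theorem card_U : (Finset.univ.filter fun c : Coord => wt c = 2 ∨ (wt c = 6 ∧ phase c = 1)).card = 378 := by
  decide +kernel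

theorem v0_U : IsU (toCoord v0) := Or.inl (by decide +kernel)

theorem card_orbit : Nat.card (MulAction.orbit W (coordEquiv F.toFrame v0)) = 378 := by
  classical
  rw [← card_U]
  have e : ∀ c : Coord, F.vec c ∈ MulAction.orbit W (coordEquiv F.toFrame v0) ↔ IsU c := by
    intro c
    constructor
    · rintro ⟨w, hw⟩
      exact F.isU_smul v0_U hw
    · intro hc
      obtain ⟨w, hw⟩ := F.transU _ c v0_U hc
      exact ⟨w, hw⟩
  rw [Nat.card_congr ((Equiv.ofBijective _ F.toFrame.vec_bij).subtypeEquiv fun c => (e c).symm).symm,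
    Nat.card_eq_fintype_card, Fintype.card_subtype]
  apply congrArg
  ext c
  rw [Finset.mem_filter, Finset.mem_filter]
  exact Iff.rfl

theorem card_stab : Nat.card (stab F) = 51840 := by
  have h : Nat.card (MulAction.orbit W (coordEquiv F.toFrame v0)) * Nat.card (stab F) = Nat.card W := by
    rw [← Nat.card_prod]
    exact Nat.card_congr (MulAction.orbitProdStabilizerEquivGroup W _)
  rw [card_orbit, D.cardW] at h
  omega

/-- The stabiliser is the orthogonal group of minus type in dimension six. -/
theorem nonempty_stab_equiv (hodd : NoSwap F) :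
    Nonempty (stab F ≃* Cfsg.isometryGroup (ZMod 2) (Cfsg.quadFormMinus 2 (ZMod 2) 1 1)) := by
  obtain ⟨e1⟩ := nonempty_aut_equiv
  have hcard : Nat.card (MulAut (Cfsg.PSU 4 K4 2)) = 51840 := by
    rw [← Nat.card_congr e1.toEquiv, card_aut_S4]
  obtain ⟨e2⟩ := Lib.OrthSixMinus.iso_aut (K := K4) K4.card_eq hcard
  haveI : Finite (MulAut S4) := Nat.finite_of_card_ne_zero (by rw [card_aut_S4]; norm_num)
  exact ⟨(MulEquiv.ofBijective (stabHom F) ((Nat.bijective_iff_injective_and_card _).2
    ⟨stabHom_injective F hodd, by rw [card_stab, card_aut_S4]⟩)).trans (e1.trans e2.symm)⟩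

end Cfsg.Agent.Lib.FischerLarge99
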